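import Groth.Prelude.Def_ClSub2
import Groth.Agent.RedSub.Basic
import Mathlib.AlgebraicGeometry.Morphisms.FlatDescent
import Mathlib.AlgebraicGeometry.Morphisms.LocalFlatDescent
import Mathlib.AlgebraicGeometry.Morphisms.Proper
import Mathlib.AlgebraicGeometry.Morphisms.Etale

/-!
# Closed subsets proper over a base
-/

universe u

open CategoryTheory CategoryTheory.Limits AlgebraicGeometry TopologicalSpace MorphismProperty

namespace Groth.Agent.EtShriekLib

variable {X Y S : Scheme.{u}}

/-- The reduced closed subscheme on a closed subset. -/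
noncomputable abbrev redι {Z : Set X} (h : IsClosed Z) :
    (Scheme.IdealSheafData.vanishingIdeal ⟨Z, h⟩).subscheme ⟶ X :=
  (Scheme.IdealSheafData.vanishingIdeal ⟨Z, h⟩).subschemeι

theorem range_redι {Z : Set X} (h : IsClosed Z) : Set.range (redι h) = Z :=
  RedSub.range_vanishingIdeal_subschemeι _

theorem isProper_of_comp (f : X ⟶ Y) (g : Y ⟶ S) [IsSeparated g] [IsProper (f ≫ g)] : IsProper f :=
  MorphismProperty.of_postcomp (W := @IsProper) (W' := @IsSeparated) f g inferInstance inferInstance

/-- Separatedness passes to the image of a universally closed surjection. -/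
theorem isSeparated_of_comp_surjective {W' W : Scheme.{u}} (a : W' ⟶ W) (g : W ⟶ S)
    [Surjective a] [UniversallyClosed a] [IsSeparated (a ≫ g)] : IsSeparated g := by
  let m : pullback (a ≫ g) (a ≫ g) ⟶ pullback g g := pullback.map _ _ _ _ a a (𝟙 S) (by simp) (by simp)
  have hm : UniversallyClosed m :=
    MorphismProperty.pullbackMap (P := @UniversallyClosed) ‹_› ‹_› (by simp) (by simp)
  refine ⟨IsClosedImmersion.of_isPreimmersion _ ?_⟩
  have e : pullback.diagonal (a ≫ g) ≫ m = a ≫ pullback.diagonal g := by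
    apply pullback.hom_ext <;> simp [m, pullback.map, pullback.lift_fst, pullback.lift_snd]
  have : Set.range (pullback.diagonal g) = m '' Set.range (pullback.diagonal (a ≫ g)) := by
    rw [← Set.range_comp]
    have : (⇑m ∘ ⇑(pullback.diagonal (a ≫ g))) = ⇑(pullback.diagonal g) ∘ ⇑a := by
      funext x
      exact congrArg (fun φ => φ.base x) e
    rw [this, Set.range_comp, a.surjective.range_eq, Set.image_univ]
  rw [this]
  exact m.isClosedMap _ ((pullback.diagonal (a ≫ g)).isClosedEmbedding.isClosed_range)

theorem isProper_of_comp_surjective {W' W : Scheme.{u}} (a : W' ⟶ W) (g : W ⟶ S)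
    [Surjective a] [UniversallyClosed a] [IsProper (a ≫ g)] [LocallyOfFiniteType g] : IsProper g :=
  { toIsSeparated := isSeparated_of_comp_surjective a g
    toUniversallyClosed := UniversallyClosed.of_comp_surjective a g
    toLocallyOfFiniteType := inferInstance }

section IPO

variable (g : X ⟶ S)

/-- A closed subset of the image of a proper closed subscheme is proper. -/
theorem ipo_of_immersion {W : Scheme.{u}} (i : W ⟶ X) [IsClosedImmersion i] [IsProper (i ≫ g)]
    {Z : Set X} (hZ : IsClosed Z) (h : Z ⊆ Set.range i) : ClSub.IsProperOver g Z := by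
  obtain ⟨l, hl⟩ := RedSub.exists_lift_closed i (redι hZ) ((range_redι hZ).trans_subset h)
  refine ⟨hZ, ?_⟩
  have : IsClosedImmersion l := by
    have : IsClosedImmersion (l ≫ i) := by rw [hl]; infer_instance
    exact .of_comp l i
  show IsProper (redι hZ ≫ g)
  rw [← hl, Category.assoc]
  infer_instance

theorem isProper_redι {Z : Set X} (h : ClSub.IsProperOver g Z) : IsProper (redι h.1 ≫ g) := h.2

theorem ipo_mono {Z Z' : Set X} (h : ClSub.IsProperOver g Z) (hZ' : IsClosed Z') (hs : Z' ⊆ Z) :
    ClSub.IsProperOver g Z' :=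
  have := isProper_redι g h
  ipo_of_immersion g (redι h.1) hZ' (hs.trans (range_redι h.1).ge)

theorem ipo_of_isProper [IsProper g] {Z : Set X} (hZ : IsClosed Z) : ClSub.IsProperOver g Z :=
  ipo_of_immersion g (𝟙 X) hZ (by simp)

theorem ipo_empty : ClSub.IsProperOver g ∅ := by
  refine ⟨isClosed_empty, ?_⟩
  have : IsEmpty (Scheme.IdealSheafData.vanishingIdeal (⟨∅, isClosed_empty⟩ : Closeds X)).subscheme :=
    ⟨fun x => (range_redι isClosed_empty).le ⟨x, rfl⟩⟩
  infer_instance

/-- The union of two closed subsets proper over the base is proper. -/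
theorem ipo_union [LocallyOfFiniteType g] {Z Z' : Set X} (h : ClSub.IsProperOver g Z)
    (h' : ClSub.IsProperOver g Z') : ClSub.IsProperOver g (Z ∪ Z') := by
  refine ⟨h.1.union h'.1, ?_⟩
  have := isProper_redι g h
  have := isProper_redι g h'
  let r := redι (h.1.union h'.1)
  obtain ⟨l, hl⟩ := RedSub.exists_lift_closed r (redι h.1)
    (by rw [range_redι, range_redι]; exact Set.subset_union_left)
  obtain ⟨l', hl'⟩ := RedSub.exists_lift_closed r (redι h'.1)
    (by rw [range_redι, range_redι]; exact Set.subset_union_right)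
  have hcov : ∀ w, w ∈ Set.range l ∨ w ∈ Set.range l' := by
    intro w
    rcases (range_redι (h.1.union h'.1)).le ⟨w, rfl⟩ with hw | hw
    · obtain ⟨v, hv⟩ := (range_redι h.1).ge hw
      refine .inl ⟨v, r.isClosedEmbedding.injective ?_⟩
      rw [← hl] at hv
      exact hv
    · obtain ⟨v, hv⟩ := (range_redι h'.1).ge hw
      refine .inr ⟨v, r.isClosedEmbedding.injective ?_⟩
      rw [← hl'] at hv
      exact hv
  have : IsClosedImmersion l := by
    have : IsClosedImmersion (l ≫ r) := by rw [hl]; infer_instance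
    exact .of_comp l r
  have : IsClosedImmersion l' := by
    have : IsClosedImmersion (l' ≫ r) := by rw [hl']; infer_instance
    exact .of_comp l' r
  have : IsProper (l ≫ r ≫ g) := by rw [reassoc_of% hl]; infer_instance
  have : IsProper (l' ≫ r ≫ g) := by rw [reassoc_of% hl']; infer_instance
  refine { toIsSeparated := ⟨IsClosedImmersion.of_isPreimmersion _ ?_⟩, toUniversallyClosed := ⟨?_⟩,
           toLocallyOfFiniteType := inferInstance }
  · let k := r ≫ g
    have key : ∀ {W₁ : Scheme.{u}} (l₁ : W₁ ⟶ _) [IsClosedImmersion l₁] [IsSeparated (l₁ ≫ k)],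
        IsClosed (pullback.diagonal k '' Set.range l₁) := by
      intro W₁ l₁ _ _
      let m : pullback (l₁ ≫ k) (l₁ ≫ k) ⟶ pullback k k := pullback.map _ _ _ _ l₁ l₁ (𝟙 S) (by simp) (by simp)
      have hm : IsClosedImmersion m :=
        MorphismProperty.pullbackMap (P := @IsClosedImmersion) ‹_› ‹_› (by simp) (by simp)
      have e : pullback.diagonal (l₁ ≫ k) ≫ m = l₁ ≫ pullback.diagonal k := by
        apply pullback.hom_ext <;> simp [m, pullback.map, pullback.lift_fst, pullback.lift_snd]
      have hh : (⇑m ∘ ⇑(pullback.diagonal (l₁ ≫ k))) = ⇑(pullback.diagonal k) ∘ ⇑l₁ := by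
        funext x
        exact congrArg (fun φ => φ.base x) e
      rw [← Set.range_comp, ← hh, Set.range_comp]
      exact m.isClosedMap _ ((pullback.diagonal (l₁ ≫ k)).isClosedEmbedding.isClosed_range)
    show IsClosed (Set.range (pullback.diagonal k))
    have : Set.range (pullback.diagonal k) =
        pullback.diagonal k '' Set.range l ∪ pullback.diagonal k '' Set.range l' := by
      rw [← Set.image_union, show Set.range l ∪ Set.range l' = Set.univ from Set.eq_univ_of_forall hcov,
        Set.image_univ]
    rw [this]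
    exact (key l).union (key l')
  · intro X' Y' i₁ i₂ f' H C hC
    have key : ∀ {W₁ : Scheme.{u}} (l₁ : W₁ ⟶ _) [IsClosedImmersion l₁] [IsProper (l₁ ≫ r ≫ g)],
        IsClosed (f' '' (C ∩ i₁ ⁻¹' Set.range l₁)) := by
      intro W₁ l₁ _ _
      have hu : UniversallyClosed (pullback.fst i₁ l₁ ≫ f') :=
        MorphismProperty.of_isPullback (P := @UniversallyClosed)
          ((IsPullback.of_hasPullback i₁ l₁).flip.paste_vert H.flip) (inferInstance : UniversallyClosed (l₁ ≫ r ≫ g))
      rw [← Scheme.Pullback.range_fst, ← Set.image_preimage_eq_inter_range, ← Set.image_comp]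
      exact (pullback.fst i₁ l₁ ≫ f').isClosedMap _ (hC.preimage (pullback.fst i₁ l₁).continuous)
    have : C = C ∩ i₁ ⁻¹' Set.range l ∪ C ∩ i₁ ⁻¹' Set.range l' := by
      rw [← Set.inter_union_distrib_left, ← Set.preimage_union,
        show Set.range l ∪ Set.range l' = Set.univ from Set.eq_univ_of_forall hcov, Set.preimage_univ,
        Set.inter_univ]
    rw [this, Set.image_union]
    exact (key l).union (key l')

/-- Preimages of proper closed subsets under a base change are proper. -/
theorem ipo_preimage {X' S' : Scheme.{u}} {b : X' ⟶ X} {g' : X' ⟶ S'} {k : S' ⟶ S}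
    (sq : IsPullback b g' g k) {Z : Set X} (h : ClSub.IsProperOver g Z) :
    ClSub.IsProperOver g' (b ⁻¹' Z) := by
  have := isProper_redι g h
  let i := pullback.snd (redι h.1) b
  have sq' : IsPullback (pullback.fst (redι h.1) b) (i ≫ g') (redι h.1 ≫ g) k :=
    (IsPullback.of_hasPullback (redι h.1) b).paste_vert sq
  have : IsProper (i ≫ g') := MorphismProperty.of_isPullback sq' inferInstance
  refine ipo_of_immersion g' i (h.1.preimage b.continuous) ?_
  rw [Scheme.Pullback.range_snd, range_redι]

/-- The image of a proper closed subset in a separated scheme of finite type is proper. -/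
theorem ipo_image (a : X ⟶ Y) (k : Y ⟶ S) [IsSeparated k] [LocallyOfFiniteType k] (w : a ≫ k = g)
    {Z : Set X} (h : ClSub.IsProperOver g Z) : ClSub.IsProperOver k (a '' Z) := by
  have := isProper_redι g h
  have : IsProper ((redι h.1 ≫ a) ≫ k) := by rw [Category.assoc, w]; infer_instance
  have := isProper_of_comp (redι h.1 ≫ a) k
  have hcl : IsClosed (a '' Z) := by
    have := (redι h.1 ≫ a).isClosedMap.isClosed_range
    rwa [show (⇑(redι h.1 ≫ a)) = ⇑a ∘ ⇑(redι h.1) from rfl, Set.range_comp, range_redι] at this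
  refine ⟨hcl, ?_⟩
  obtain ⟨l, hl⟩ := RedSub.exists_lift_closed (redι hcl) (redι h.1 ≫ a) (by
    rw [range_redι, show (⇑(redι h.1 ≫ a)) = ⇑a ∘ ⇑(redι h.1) from rfl, Set.range_comp, range_redι])
  have : IsProper (l ≫ redι hcl) := by rw [hl]; infer_instance
  have := isProper_of_comp l (redι hcl)
  have : Surjective l := by
    refine ⟨fun w => ?_⟩
    obtain ⟨x, hx, e⟩ := (range_redι hcl).le ⟨w, rfl⟩
    obtain ⟨v, rfl⟩ := (range_redι h.1).ge hx
    refine ⟨v, (redι hcl).isClosedEmbedding.injective ?_⟩
    rw [← Scheme.Hom.comp_apply, hl]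
    exact e
  have : IsProper (l ≫ redι hcl ≫ k) := by rw [reassoc_of% hl, w]; infer_instance
  exact isProper_of_comp_surjective l (redι hcl ≫ k)

/-- Transitivity. -/
theorem ipo_comp (a : X ⟶ Y) (k : Y ⟶ S) {Z : Set X} {Z' : Set Y} (h : ClSub.IsProperOver a Z)
    (h' : ClSub.IsProperOver k Z') (hs : a '' Z ⊆ Z') : ClSub.IsProperOver (a ≫ k) Z := by
  have := isProper_redι a h
  have := isProper_redι k h'
  obtain ⟨l, hl⟩ := RedSub.exists_lift_closed (redι h'.1) (redι h.1 ≫ a) (by
    rw [range_redι, show (⇑(redι h.1 ≫ a)) = ⇑a ∘ ⇑(redι h.1) from rfl, Set.range_comp, range_redι]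
    exact hs)
  have : IsProper (l ≫ redι h'.1) := by rw [hl]; infer_instance
  have := isProper_of_comp l (redι h'.1)
  refine ⟨h.1, ?_⟩
  show IsProper (redι h.1 ≫ a ≫ k)
  rw [← reassoc_of% hl]
  infer_instance

end IPO

section Descent

/-- Properness descends along fppf coverings. -/
theorem isProper_of_isPullback {X' S' : Scheme.{u}} {b : X' ⟶ X} {g' : X' ⟶ S'} {g : X ⟶ S}
    {k : S' ⟶ S} (sq : IsPullback b g' g k) [Surjective k] [Flat k] [LocallyOfFinitePresentation k]
    [IsProper g'] : IsProper g := by
  have hk : (@Surjective ⊓ @Flat ⊓ @LocallyOfFinitePresentation : MorphismProperty Scheme) k :=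
    ⟨⟨inferInstance, inferInstance⟩, inferInstance⟩
  have h1 : UniversallyClosed g :=
    MorphismProperty.of_isPullback_of_descendsAlong (P := @UniversallyClosed) sq.flip hk inferInstance
  have h2 : LocallyOfFiniteType g :=
    MorphismProperty.of_isPullback_of_descendsAlong (P := @LocallyOfFiniteType) sq.flip hk inferInstance
  have h3 : MorphismProperty.diagonal @UniversallyClosed g :=
    MorphismProperty.of_isPullback_of_descendsAlong sq.flip hk
      (show UniversallyClosed (pullback.diagonal g') from inferInstance)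
  have h4 : UniversallyClosed (pullback.diagonal g) := h3
  exact { toIsSeparated := ⟨IsClosedImmersion.of_isPreimmersion _ (pullback.diagonal g).isClosedMap.isClosed_range⟩
          toUniversallyClosed := h1
          toLocallyOfFiniteType := h2 }

/-- The pullback of a closed subscheme is proper if the preimage of the closed subset is. -/
theorem isProper_snd_of_preimage {X' S' : Scheme.{u}} {b : X' ⟶ X} {g' : X' ⟶ S'} {g : X ⟶ S}
    {k : S' ⟶ S} (sq : IsPullback b g' g k)
    [LocallyOfFiniteType g'] {Z : Set X} (hZ : IsClosed Z) (h : ClSub.IsProperOver g' (b ⁻¹' Z)) :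
    IsProper (pullback.snd (redι hZ ≫ g) k) := by
  have := isProper_redι g' h
  let i := pullback.snd (redι hZ) b
  have hr : Set.range i = b ⁻¹' Z := by rw [Scheme.Pullback.range_snd, range_redι]
  obtain ⟨l, hl⟩ := RedSub.exists_lift_closed i (redι h.1) ((range_redι h.1).trans hr.symm).le
  have : IsClosedImmersion l := by
    have : IsClosedImmersion (l ≫ i) := by rw [hl]; infer_instance
    exact .of_comp l i
  have : Surjective l := by
    refine ⟨fun w => ?_⟩
    obtain ⟨v, hv⟩ := (range_redι h.1).ge (hr.le ⟨w, rfl⟩)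
    refine ⟨v, i.isClosedEmbedding.injective ?_⟩
    rw [← Scheme.Hom.comp_apply, hl]
    exact hv
  have sq' : IsPullback (pullback.fst (redι hZ) b) (i ≫ g') (redι hZ ≫ g) k :=
    (IsPullback.of_hasPullback (redι hZ) b).paste_vert sq
  have : IsProper (i ≫ g') := by
    have : IsProper (l ≫ i ≫ g') := by rw [reassoc_of% hl]; infer_instance
    exact isProper_of_comp_surjective l (i ≫ g')
  rw [← MorphismProperty.cancel_left_of_respectsIso @IsProper sq'.isoPullback.hom,
    sq'.isoPullback_hom_snd]
  infer_instance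

/-- Properness of a closed subset is local on the base for the étale topology. -/
theorem ipo_of_forall_exists {g : X ⟶ S} {Z : Set X} (hZ : IsClosed Z)
    (h : ∀ v : S, ∃ (S' : Scheme.{u}) (k : S' ⟶ S) (_ : Etale k),
      v ∈ Set.range k.base ∧ IsProper (pullback.snd (redι hZ ≫ g) k)) :
    ClSub.IsProperOver g Z := by
  refine ⟨hZ, ?_⟩
  show IsProper (redι hZ ≫ g)
  choose S' k hk hv hp using h
  have hopen : ∀ v, IsOpen (Set.range (k v)) := fun v => by
    have := hk v
    exact (k v).isOpenMap.isOpen_range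
  rw [IsZariskiLocalAtTarget.iff_of_iSup_eq_top (P := @IsProper) (fun v => (⟨_, hopen v⟩ : S.Opens))
    (eq_top_iff.mpr fun v _ => Opens.mem_iSup.mpr ⟨v, hv v⟩)]
  intro v
  let O : S.Opens := ⟨_, hopen v⟩
  let k₀ : S' v ⟶ O := IsOpenImmersion.lift O.ι (k v) (by simp [O])
  have hk₀ : k₀ ≫ O.ι = k v := IsOpenImmersion.lift_fac _ _ _
  have : Etale k₀ := by
    have : Etale (k₀ ≫ O.ι) := by rw [hk₀]; exact hk v
    exact Etale.of_comp k₀ O.ι
  have : Surjective k₀ := by
    refine ⟨fun w => ?_⟩
    obtain ⟨s, hs⟩ := w.2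
    refine ⟨s, O.ι.isOpenEmbedding.injective ?_⟩
    rw [← Scheme.Hom.comp_apply, hk₀]
    exact hs
  let p := redι hZ ≫ g
  have sqO := (isPullback_morphismRestrict p O).flip
  have hbig : IsPullback (pullback.fst p (k v)) (pullback.snd p (k v)) p (k₀ ≫ O.ι) := by
    rw [hk₀]; exact IsPullback.of_hasPullback _ _
  let a := sqO.lift (pullback.fst p (k v)) (pullback.snd p (k v) ≫ k₀)
    (by rw [Category.assoc, hk₀]; exact pullback.condition)
  have ha : IsPullback a (pullback.snd p (k v)) (p ∣_ O) k₀ :=
    IsPullback.of_right (by rw [IsPullback.lift_fst]; exact hbig) (IsPullback.lift_snd _ _ _ _) sqO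
  have := hp v
  exact isProper_of_isPullback ha

end Descent

end Groth.Agent.EtShriekLib
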