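import Groth.Agent.EtShriekLib.Exact
import Groth.Agent.EtColim.Sections
import Groth.Agent.LimLib.Proper
import Groth.Agent.LimLib.ClosedApprox
import Groth.Agent.LimLib.FPSystem

/-!
# Direct image with proper support: left exactness and filtered colimits

* `preservesFiniteLimits_of_separated`: `f_!` is left exact for `f` locally of finite type.
* `exists_zero_stage`, `exists_lift_stage`: sections with proper support over an affine base and
  filtered colimits.
* `preservesColimitsOfShape_of_isFiltered`: `f_!` commutes with filtered colimits.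
-/

universe u

open CategoryTheory CategoryTheory.Limits AlgebraicGeometry Opposite TopologicalSpace

namespace Groth.Agent.EtShriekLib

open EtShriek (sectSupp prV shriekSubgroup)
open EtColim.Sections (overlap overlapFst overlapSnd)

section Topology

variable {X S : Scheme.{u}} {g : X ⟶ S}

/-- A closed subscheme structure on a subset proper over the base is universally closed. -/
theorem universallyClosed_of_range {T : Scheme.{u}} (i : T ⟶ X) [IsClosedImmersion i]
    {Z : Set X} (h : ClSub.IsProperOver g Z) (hi : Set.range i = Z) : UniversallyClosed (i ≫ g) := by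
  have := isProper_redι g h
  obtain ⟨l, hl⟩ := RedSub.exists_lift_closed i (redι h.1) ((range_redι h.1).trans hi.symm).le
  have : Surjective l := by
    refine ⟨fun w => ?_⟩
    obtain ⟨v, hv⟩ := (range_redι h.1).ge (hi.le ⟨w, rfl⟩)
    refine ⟨v, i.isClosedEmbedding.injective ?_⟩
    rw [← Scheme.Hom.comp_apply, hl]
    exact hv
  have : UniversallyClosed (l ≫ i ≫ g) := by rw [reassoc_of% hl]; infer_instance
  exact UniversallyClosed.of_comp_surjective l (i ≫ g)

theorem support_vanishing (Z : Closeds X) :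
    ((Scheme.IdealSheafData.vanishingIdeal Z).support : Set X) = Z :=
  (Scheme.IdealSheafData.range_subschemeι _).symm.trans (range_redι Z.isClosed)

/-- A quasi-compact set lies in a quasi-compact open. -/
theorem exists_compact_opens {Z : Set X} (hZ : IsCompact Z) :
    ∃ O : X.Opens, IsCompact (O : Set X) ∧ Z ⊆ O := by
  obtain ⟨O, hc, ho, hs, -⟩ :=
    PrespectralSpace.exists_isCompact_and_isOpen_between hZ isOpen_univ (Set.subset_univ Z)
  exact ⟨⟨O, ho⟩, hc, hs⟩

/-- Subsets proper over a quasi-compact base are quasi-compact. -/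
theorem isCompact_of_ipo [CompactSpace S] {Z : Set X} (h : ClSub.IsProperOver g Z) : IsCompact Z := by
  have := isProper_redι g h
  have := QuasiCompact.compactSpace_of_compactSpace (redι h.1 ≫ g)
  rw [← range_redι h.1]
  exact isCompact_range (redι h.1).continuous

end Topology

variable {X Y : Scheme.{u}} (f : X ⟶ Y) [LocallyOfFiniteType f]

section Sections

variable {J : Type u} [SmallCategory J] [IsFiltered J] (D : J ⥤ EtCoh.Ab X) (c : Cocone D)
  (hc : IsColimit c)

include hc

/-- A section with proper support over a quasi-compact base vanishing in the colimit vanishes at a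
finite stage. -/
theorem exists_zero_stage (V : Y.Etale) [CompactSpace V.left] {i : J}
    (s : shriekSubgroup f (D.obj i) V)
    (h : (c.ι.app i).hom.app (op ((EtCoh.bc f).obj V)) s.1 = 0) :
    ∃ (k : J) (φ : i ⟶ k), (D.map φ).hom.app (op ((EtCoh.bc f).obj V)) s.1 = 0 := by
  have hs := (mem_shriekSubgroup_iff f _ V s.1).mp s.2
  obtain ⟨O, hO, hsO⟩ := exists_compact_opens (isCompact_of_ipo hs)
  let W := EtaleSite.piece ((EtCoh.bc f).obj V) O
  have : CompactSpace W.left := isCompact_iff_compactSpace.mp hO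
  have h0 : (c.ι.app i).hom.app (op W)
      ((D.obj i).obj.map (EtaleSite.pieceHom _ O).op s.1) = 0 := by
    refine (NatTrans.naturality_apply (c.ι.app i).hom (EtaleSite.pieceHom _ O).op s.1).trans ?_
    rw [h, map_zero]
  obtain ⟨k, φ, hk⟩ := EtColim.Sections.exists_map_eq_zero D c hc W _ h0
  refine ⟨k, φ, eq_zero_of_sectSupp_empty _ _ (Set.eq_empty_iff_forall_notMem.mpr fun x hx => ?_)⟩
  have hxO : x ∈ O := hsO (EtShriek.sectSupp_map_subset (D.map φ) _ _ hx)
  refine (notMem_sectSupp_iff (D.obj k) _ x).mpr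
    ⟨W, EtaleSite.pieceHom _ O, ⟨(⟨x, hxO⟩ : O), rfl⟩, ?_⟩ hx
  exact (NatTrans.naturality_apply (D.map φ).hom (EtaleSite.pieceHom _ O).op s.1).symm.trans hk

/-- Every section with proper support of the colimit over an affine base comes from a section
with proper support at a finite stage. -/
theorem exists_lift_stage [IsSeparated f] (V : Y.Etale) [IsAffine V.left]
    (t : shriekSubgroup f c.pt V) :
    ∃ (i : J) (s : shriekSubgroup f (D.obj i) V),
      (c.ι.app i).hom.app (op ((EtCoh.bc f).obj V)) s.1 = t.1 := by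
  classical
  let U := (EtCoh.bc f).obj V
  let p := prV f V
  have hZ := (mem_shriekSubgroup_iff f c.pt V t.1).mp t.2
  obtain ⟨O, hO, hZO⟩ := exists_compact_opens (isCompact_of_ipo hZ)
  have : QuasiSeparatedSpace U.left := quasiSeparatedSpace_of_quasiSeparated p
  let W := EtaleSite.piece U O
  let g : W ⟶ U := EtaleSite.pieceHom U O
  have : CompactSpace W.left := isCompact_iff_compactSpace.mp hO
  have : QuasiSeparatedSpace W.left :=
    QuasiSeparatedSpace.of_isOpenEmbedding (f := O.ι) O.ι.isOpenEmbedding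
  have : IsOpenImmersion g.left := inferInstanceAs (IsOpenImmersion O.ι)
  obtain ⟨i, r, hr⟩ := EtColim.Sections.exists_rep D c hc W (c.pt.obj.map g.op t.1)
  -- the supports at the later stages
  let r' : ∀ (k : J) (_ : i ⟶ k), EtCoh.sect (D.obj k) W := fun k φ => (D.map φ).hom.app (op W) r
  have hr' : ∀ (k : J) (φ : i ⟶ k), (c.ι.app k).hom.app (op W) (r' k φ) = c.pt.obj.map g.op t.1 :=
    fun k φ => by
      rw [← hr, ← c.w φ]
      rfl
  let Zc : ∀ (k : J) (_ : i ⟶ k), Closeds W.left := fun k φ =>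
    ⟨sectSupp (D.obj k) W (r' k φ), isClosed_sectSupp _ W _⟩
  let IZ : Set W.left.IdealSheafData :=
    {I | ∃ (k : J) (φ : i ⟶ k), I = Scheme.IdealSheafData.vanishingIdeal (Zc k φ)}
  have hmono : ∀ (k k' : J) (φ : i ⟶ k) (ψ : k ⟶ k'),
      Scheme.IdealSheafData.vanishingIdeal (Zc k φ) ≤
        Scheme.IdealSheafData.vanishingIdeal (Zc k' (φ ≫ ψ)) := fun k k' φ ψ => by
    refine Scheme.IdealSheafData.vanishingIdeal_antimono fun x hx => ?_
    have e : r' k' (φ ≫ ψ) = (D.map ψ).hom.app (op W) (r' k φ) := by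
      simp only [r', Functor.map_comp]
      rfl
    have hx' : x ∈ sectSupp (D.obj k') W (r' k' (φ ≫ ψ)) := hx
    rw [e] at hx'
    exact EtShriek.sectSupp_map_subset (D.map ψ) W _ hx'
  have : IsDirectedOrder IZ := ⟨by
    rintro ⟨_, k₁, φ₁, rfl⟩ ⟨_, k₂, φ₂, rfl⟩
    obtain ⟨m, a, b, hab⟩ := IsFiltered.span φ₁ φ₂
    exact ⟨⟨_, m, φ₁ ≫ a, rfl⟩, hmono _ _ _ _, hab ▸ hmono _ _ φ₂ b⟩⟩
  have : Nonempty IZ := ⟨⟨_, i, 𝟙 i, rfl⟩⟩
  let F : IZ →o W.left.IdealSheafData := ⟨Subtype.val, fun _ _ h => h⟩
  let K := ⨆ q, F q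
  have hsupp : (K.support : Set W.left) = g.left ⁻¹' sectSupp c.pt U t.1 := by
    ext x
    rw [← sectSupp_map]
    constructor
    · intro hx
      by_contra hx'
      obtain ⟨_, ⟨A, hA, rfl⟩, hxA, hAs⟩ := W.left.isBasis_affineOpens.exists_subset_of_mem_open
        (show x ∈ (sectSupp c.pt W (c.pt.obj.map g.op t.1))ᶜ from hx')
        (isClosed_sectSupp _ W _).isOpen_compl
      let P := EtaleSite.piece W A
      have : CompactSpace P.left := isCompact_iff_compactSpace.mp hA.isCompact
      have h0 : (c.ι.app i).hom.app (op P) ((D.obj i).obj.map (EtaleSite.pieceHom W A).op r) = 0 := by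
        refine (NatTrans.naturality_apply (c.ι.app i).hom (EtaleSite.pieceHom W A).op r).trans ?_
        rw [hr]
        have hh : c.pt.obj.map (EtaleSite.pieceHom W A).op (c.pt.obj.map g.op t.1) = 0 := by
          refine eq_zero_of_sectSupp_empty c.pt _ (Set.eq_empty_iff_forall_notMem.mpr fun y hy => ?_)
          rw [sectSupp_map] at hy
          exact hAs y.2 hy
        exact hh
      obtain ⟨k, φ, hk⟩ := EtColim.Sections.exists_map_eq_zero D c hc P _ h0
      have hle : F ⟨_, k, φ, rfl⟩ ≤ K := le_iSup F ⟨_, k, φ, rfl⟩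
      have hxk : x ∈ sectSupp (D.obj k) W (r' k φ) := by
        exact (support_vanishing (Zc k φ)).le (Scheme.IdealSheafData.support_antitone hle hx)
      refine (notMem_sectSupp_iff (D.obj k) _ x).mpr
        ⟨P, EtaleSite.pieceHom W A, ⟨(⟨x, hxA⟩ : A), rfl⟩, ?_⟩ hxk
      exact (NatTrans.naturality_apply (D.map φ).hom (EtaleSite.pieceHom W A).op r).symm.trans hk
    · intro hx
      simp only [K, Scheme.IdealSheafData.support_iSup, Closeds.coe_iInf, Set.mem_iInter]
      rintro ⟨_, k, φ, rfl⟩
      show x ∈ ((Scheme.IdealSheafData.vanishingIdeal (Zc k φ)).support : Set W.left)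
      rw [support_vanishing]
      rw [← hr' k φ] at hx
      exact EtShriek.sectSupp_map_subset (c.ι.app k) W _ hx
  -- some stage has proper support
  let E : IZᵒᵖ ⥤ Scheme.{u} := LimLib.idealDiagram F ⋙ Over.forget _
  let q : W.left ⟶ V.left := g.left ≫ p
  let τ : E ⟶ (Functor.const IZᵒᵖ).obj V.left :=
    { app := fun j => (F j.unop).subschemeι ≫ q
      naturality := fun a b h => by
        show Scheme.IdealSheafData.inclusion _ ≫ (F b.unop).subschemeι ≫ q =
          ((F a.unop).subschemeι ≫ q) ≫ 𝟙 _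
        rw [Scheme.IdealSheafData.inclusion_subschemeι_assoc, Category.comp_id] }
  have hKker : ⨆ j, F j = K.subschemeι.ker := (Scheme.IdealSheafData.ker_subschemeι K).symm
  let cone := (Over.forget W.left).mapCone (LimLib.idealCone F K.subschemeι hKker)
  have hcone : IsLimit cone :=
    (LimLib.isLimitForget (LimLib.isLimitIdealCone F K.subschemeι hKker)).some
  have hclosedmap : ∀ (a b : IZᵒᵖ) (h : a ⟶ b), IsClosedImmersion (E.map h) := fun a b h =>
    inferInstanceAs (IsClosedImmersion ((LimLib.idealDiagram F).map h).left)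
  have : ∀ j, LocallyOfFiniteType (τ.app j) := fun j =>
    inferInstanceAs (LocallyOfFiniteType ((F j.unop).subschemeι ≫ g.left ≫ p))
  have : ∀ j, QuasiCompact (τ.app j) := fun j => by
    have : IsClosedImmersion (F j.unop).subschemeι := inferInstance
    have : CompactSpace (E.obj j) :=
      (F j.unop).subschemeι.isClosedEmbedding.compactSpace
    exact @quasiCompact_of_compactSpace _ _ (τ.app j) _ (inferInstanceAs (QuasiSeparatedSpace V.left))
  let j₀ : IZᵒᵖ := op ⟨_, i, 𝟙 i, rfl⟩
  have hrange : Set.range (K.subschemeι ≫ g.left) = sectSupp c.pt U t.1 := by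
    rw [show (⇑(K.subschemeι ≫ g.left)) = ⇑g.left ∘ ⇑K.subschemeι from rfl, Set.range_comp,
      Scheme.IdealSheafData.range_subschemeι, hsupp]
    exact Set.image_preimage_eq_of_subset fun x hx => ⟨⟨x, hZO hx⟩, rfl⟩
  have hKi : IsClosedImmersion (K.subschemeι ≫ g.left) :=
    IsClosedImmersion.of_isPreimmersion _ (by rw [hrange]; exact hZ.1)
  have : UniversallyClosed (cone.π.app j₀ ≫ τ.app j₀) := by
    have e : cone.π.app j₀ ≫ τ.app j₀ = (K.subschemeι ≫ g.left) ≫ p := by
      have w : cone.π.app j₀ ≫ (F j₀.unop).subschemeι = K.subschemeι :=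
        Over.w ((LimLib.idealCone F K.subschemeι hKker).π.app j₀)
      exact (Category.assoc (cone.π.app j₀) (F j₀.unop).subschemeι q).symm.trans
        ((congrArg (· ≫ q) w).trans (Category.assoc K.subschemeι g.left p).symm)
    rw [e]
    exact @universallyClosed_of_range _ _ _ _ (K.subschemeι ≫ g.left) hKi _ hZ hrange
  obtain ⟨⟨⟨_, k, φ, rfl⟩⟩, -, hk⟩ :=
    LimLib.exists_universallyClosed_stage_of_isClosedImmersion E τ cone hcone j₀
  let ι' : (Scheme.IdealSheafData.vanishingIdeal (Zc k φ)).subscheme ⟶ U.left :=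
    (Scheme.IdealSheafData.vanishingIdeal (Zc k φ)).subschemeι ≫ g.left
  have : UniversallyClosed (ι' ≫ p) := by rw [Category.assoc]; exact hk
  have : IsSeparated (ι' ≫ p) := inferInstance
  have : LocallyOfFiniteType (ι' ≫ p) := inferInstance
  have : IsProper (ι' ≫ p) := { }
  have := isProper_of_comp ι' p
  have : IsClosedImmersion ι' :=
    IsClosedImmersion.of_isPreimmersion _ ι'.isClosedMap.isClosed_range
  let Z' : Set U.left := g.left '' sectSupp (D.obj k) W (r' k φ)
  have hrange' : Set.range ι' = Z' := by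
    rw [show (⇑ι') = ⇑g.left ∘ ⇑(redι (Zc k φ).isClosed) from rfl, Set.range_comp, range_redι]
    rfl
  have hZ' : ClSub.IsProperOver p Z' :=
    ipo_of_immersion p ι' (hrange' ▸ ι'.isClosedEmbedding.isClosed_range) hrange'.ge
  -- extension by zero
  let O₂ : U.left.Opens := ⟨Z'ᶜ, hZ'.1.isOpen_compl⟩
  let Os : ULift.{u} Bool → U.left.Opens := fun b => cond b.down O O₂
  let gs : ∀ b, EtaleSite.piece U (Os b) ⟶ U := fun b => EtaleSite.pieceHom U (Os b)
  have hcov : ∀ x : U.left, ∃ (b : ULift.{u} Bool) (v : (EtaleSite.piece U (Os b)).left), (gs b).left v = x :=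
    fun x => by
      by_cases hx : x ∈ Z'
      · obtain ⟨w, _, hw⟩ := hx
        exact ⟨⟨true⟩, w, hw⟩
      · exact ⟨⟨false⟩, (⟨x, hx⟩ : O₂), rfl⟩
  let x : ∀ b, EtCoh.sect (D.obj k) (EtaleSite.piece U (Os b)) :=
    fun b => match b with | ⟨true⟩ => r' k φ | ⟨false⟩ => 0
  have hx : ∀ b b', (D.obj k).obj.map (overlapFst (gs b) (gs b')).op (x b) =
      (D.obj k).obj.map (overlapSnd (gs b) (gs b')).op (x b') := by
    have key : (D.obj k).obj.map (overlapFst (gs ⟨true⟩) (gs ⟨false⟩)).op (r' k φ) = 0 := by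
      refine eq_zero_of_sectSupp_empty _ _ (Set.eq_empty_iff_forall_notMem.mpr fun z hz => ?_)
      rw [sectSupp_map] at hz
      have e := congrArg (fun a => a.left z) (EtColim.Sections.overlap_w (gs ⟨true⟩) (gs ⟨false⟩))
      exact ((overlapSnd (gs ⟨true⟩) (gs ⟨false⟩)).left z).2 ⟨_, hz, e⟩
    have key' : (D.obj k).obj.map (overlapSnd (gs ⟨false⟩) (gs ⟨true⟩)).op (r' k φ) = 0 := by
      refine eq_zero_of_sectSupp_empty _ _ (Set.eq_empty_iff_forall_notMem.mpr fun z hz => ?_)
      rw [sectSupp_map] at hz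
      have e := congrArg (fun a => a.left z) (EtColim.Sections.overlap_w (gs ⟨false⟩) (gs ⟨true⟩))
      exact ((overlapFst (gs ⟨false⟩) (gs ⟨true⟩)).left z).2 ⟨_, hz, e.symm⟩
    rintro ⟨_ | _⟩ ⟨_ | _⟩
    · exact (map_zero _).trans (map_zero _).symm
    · exact (map_zero _).trans key'.symm
    · exact key.trans (map_zero _).symm
    · refine eq_of_sub_eq_zero (eq_zero_of_sectSupp_empty _ _ ?_)
      have : overlapFst (gs ⟨true⟩) (gs ⟨true⟩) = overlapSnd (gs ⟨true⟩) (gs ⟨true⟩) := by
        have : Mono (gs ⟨true⟩).left := inferInstanceAs (Mono O.ι)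
        exact MorphismProperty.Over.Hom.ext ((cancel_mono (gs ⟨true⟩).left).mp
          (congrArg (fun a => a.left) (EtColim.Sections.overlap_w (gs ⟨true⟩) (gs ⟨true⟩))))
      rw [this, sub_self, sectSupp_zero]
  obtain ⟨s, hs, -⟩ := EtColim.Sections.exists_unique_glue (D.obj k) gs hcov x hx
  have hsZ : sectSupp (D.obj k) U s ⊆ Z' := fun y hy => by_contra fun hy' =>
    (notMem_sectSupp_iff (D.obj k) s y).mpr
      ⟨_, gs ⟨false⟩, ⟨(⟨y, hy'⟩ : O₂), rfl⟩, hs ⟨false⟩⟩ hy
  refine ⟨k, ⟨s, (mem_shriekSubgroup_iff f _ V s).mpr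
    (ipo_mono p hZ' (isClosed_sectSupp _ U s) hsZ)⟩, ?_⟩
  refine EtColim.Sections.ext_of_cover c.pt gs hcov _ _ fun b => ?_
  refine (NatTrans.naturality_apply (c.ι.app k).hom (gs b).op s).symm.trans ?_
  rw [hs b]
  obtain ⟨_ | _⟩ := b
  · refine (map_zero _).trans (Eq.symm ?_)
    have hh : sectSupp c.pt (EtaleSite.piece U (Os ⟨false⟩)) (c.pt.obj.map (gs ⟨false⟩).op t.1) = ∅ := ?_
    · exact eq_zero_of_sectSupp_empty c.pt _ hh
    refine Set.eq_empty_iff_forall_notMem.mpr fun z hz => ?_
    rw [sectSupp_map] at hz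
    refine (show (gs ⟨false⟩).left z ∉ Z' from z.2) ?_
    refine ⟨⟨_, hZO hz⟩, EtShriek.sectSupp_map_subset (c.ι.app k) W _ ?_, rfl⟩
    rw [hr' k φ]
    exact (sectSupp_map c.pt g t.1).ge hz
  · exact hr' k φ

end Sections

section LeftExact

instance additive_of_lft : (shriek₀ f).Additive where
  map_add := by
    intro F G a b
    refine Sheaf.hom_ext (NatTrans.ext (funext fun V => ?_))
    exact AddCommGrpCat.hom_ext (DFunLike.ext _ _ fun s => Subtype.ext rfl)

theorem injective_app_of_mono {F G : EtCoh.Ab X} (a : F ⟶ G) [Mono a] (U : X.Etale) :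
    Function.Injective (a.hom.app (op U)) := by
  have : Mono ((sheafToPresheaf X.smallEtaleTopology AddCommGrpCat.{u + 1}).map a) := inferInstance
  exact (AddCommGrpCat.mono_iff_injective _).1 (NatTrans.mono_iff_mono_app _ |>.1 this (op U))

theorem preservesFiniteLimits_of_separated : PreservesFiniteLimits (shriek₀ f) := by
  have key : ∀ {F G : EtCoh.Ab X} (g : F ⟶ G), PreservesLimit (parallelPair g 0) (shriek₀ f) := by
    intro F G g
    refine preservesLimit_of_preserves_limit_cone (kernelIsKernel g) ?_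
    refine (KernelFork.isLimitMapConeEquiv _ _).symm ?_
    let i := kernel.ι g
    have : Mono ((shriek₀ f).map i) := by
      have : ∀ V, Mono ((EtShriek.lowerShriekPreFunctor f).map i |>.app V) := fun V =>
        (AddCommGrpCat.mono_iff_injective _).mpr fun a b h =>
          Subtype.ext (injective_app_of_mono i _ (congrArg Subtype.val h))
      have : Mono ((sheafToPresheaf _ AddCommGrpCat.{u + 1}).map ((shriek₀ f).map i)) :=
        NatTrans.mono_of_mono_app ((EtShriek.lowerShriekPreFunctor f).map i)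
      exact (sheafToPresheaf _ _).mono_of_mono_map this
    refine KernelFork.IsLimit.ofι' ((shriek₀ f).map i) (by
      rw [← Functor.map_comp, kernel.condition, Functor.map_zero]) fun {A} k hk => ?_
    have hex : ∀ (V : Y.Etaleᵒᵖ) (w : A.obj.obj V),
        ∃ s : shriekSubgroup f (kernel g) V.unop,
          i.hom.app (op ((EtCoh.bc f).obj V.unop)) s.1 =
            (show shriekSubgroup f F V.unop from k.hom.app V w).1 := by
      intro V w
      let s₀ : shriekSubgroup f F V.unop := k.hom.app V w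
      let U := (EtCoh.bc f).obj V.unop
      have h0 : g.hom.app (op U) s₀.1 = 0 :=
        congrArg (fun q : ↥(shriekSubgroup f G V.unop) => q.1)
          (ConcreteCategory.congr_hom (congrArg (fun φ => φ.hom.app V) hk) w)
      let S := ShortComplex.mk i g (kernel.condition g)
      have hS : S.Exact := S.exact_of_f_is_kernel (kernelIsKernel g)
      let Ev := sheafToPresheaf X.smallEtaleTopology AddCommGrpCat.{u + 1} ⋙
        (evaluation X.Etaleᵒᵖ AddCommGrpCat.{u + 1}).obj (op U)
      have hS' : (S.map Ev).Exact :=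
        (S.map Ev).exact_of_f_is_kernel (KernelFork.mapIsLimit _ (kernelIsKernel g) Ev)
      obtain ⟨z, hz⟩ := (ShortComplex.ab_exact_iff _).1 hS' s₀.1 h0
      refine ⟨⟨z, (mem_shriekSubgroup_iff f _ _ z).mpr ?_⟩, hz⟩
      have hp := (mem_shriekSubgroup_iff f F _ s₀.1).mp s₀.2
      rw [show s₀.1 = i.hom.app (op U) z from hz.symm] at hp
      rwa [sectSupp_app_of_mono] at hp
    choose σ hσ using hex
    have hinj : ∀ {V : Y.Etaleᵒᵖ} {a b : shriekSubgroup f (kernel g) V.unop},
        i.hom.app (op ((EtCoh.bc f).obj V.unop)) a.1 =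
          i.hom.app (op ((EtCoh.bc f).obj V.unop)) b.1 → a = b :=
      fun h => Subtype.ext (injective_app_of_mono i _ h)
    let l : A ⟶ (shriek₀ f).obj (kernel g) := ⟨{
      app := fun V => AddCommGrpCat.ofHom (AddMonoidHom.mk' (σ V) fun a b => hinj (by
        rw [hσ, map_add]
        show _ = i.hom.app _ ((σ V a).1 + (σ V b).1)
        rw [map_add, hσ, hσ]
        rfl))
      naturality := fun V V' φ => AddCommGrpCat.hom_ext (DFunLike.ext _ _ fun w => hinj (by
        show i.hom.app _ (σ V' (A.obj.map φ w)).1 =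
          i.hom.app _ ((kernel g).obj.map ((EtCoh.bc f).map φ.unop).op (σ V w).1)
        rw [hσ, NatTrans.naturality_apply i.hom, hσ]
        exact congrArg Subtype.val (NatTrans.naturality_apply k.hom φ w))) }⟩
    refine ⟨l, Sheaf.hom_ext (NatTrans.ext (funext fun V =>
      AddCommGrpCat.hom_ext (DFunLike.ext _ _ fun w => Subtype.ext (hσ V w))))⟩
  have := fun {F G : EtCoh.Ab X} (g : F ⟶ G) => key g
  exact (shriek₀ f).preservesFiniteLimits_of_preservesKernels

end LeftExact

section FilteredColimits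

theorem exists_affine_nhd {Z : Scheme.{u}} {Ω : Type u} [Field Ω] [IsSepClosed Ω]
    (η : Spec (CommRingCat.of Ω) ⟶ Z) (V : Z.Etale)
    (φ : (Scheme.pointSmallEtale η).fiber.obj V) :
    ∃ (W : Z.Etale) (g : W ⟶ V) (ψ : (Scheme.pointSmallEtale η).fiber.obj W),
      IsAffine W.left ∧ (Scheme.pointSmallEtale η).fiber.map g ψ = φ := by
  let xl : Spec (CommRingCat.of Ω) ⟶ V.left := φ.left
  obtain ⟨A, hA, hxA, -⟩ := exists_isAffineOpen_mem_and_subset
    (show xl (default : Spec (CommRingCat.of Ω)) ∈ (⊤ : V.left.Opens) from trivial)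
  obtain ⟨l, hl, -⟩ := Scheme.exists_fac_of_etale_of_isSepClosed A.ι xl
    (⟨_, hxA⟩ : A) rfl
  let ψ : (Scheme.pointSmallEtale η).fiber.obj (EtaleSite.piece V A) :=
    (Over.homMk l (by
      show l ≫ A.ι ≫ V.hom = η
      rw [← Category.assoc, hl]
      exact Over.w φ) : Over.mk η ⟶ (Scheme.Etale.forget Z).obj (EtaleSite.piece V A))
  exact ⟨_, EtaleSite.pieceHom V A, ψ, hA, Over.OverMorphism.ext hl⟩

variable [IsSeparated f]

theorem preservesColimitsOfShape_of_isFiltered (J : Type u) [SmallCategory J] [IsFiltered J] :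
    PreservesColimitsOfShape J (shriek₀ f) := by
  constructor
  intro D
  have : ∀ (Ω : Type u) [Field Ω] [IsSepClosed Ω] (η : Spec (CommRingCat.of Ω) ⟶ Y),
      IsIso ((EtCoh.stalk η).map (colimit.post D (shriek₀ f))) := by
    intro Ω _ _ η
    rw [ConcreteCategory.isIso_iff_bijective]
    let c := colimit.cocone D
    let hc : IsColimit c := colimit.isColimit D
    let S := shriek₀ f
    let T := EtCoh.stalk η
    have : PreservesColimitsOfSize.{u, u} T :=
      (Scheme.pointSmallEtale η).skyscraperSheafAdjunction.leftAdjoint_preservesColimits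
    have h2 := isColimitOfPreserves T (colimit.isColimit (D ⋙ S))
    have hpost : ∀ (j : J) (q : T.obj (S.obj (D.obj j))),
        T.map (colimit.post D S) (T.map (colimit.ι (D ⋙ S) j) q) =
          T.map (S.map (c.ι.app j)) q := fun j q => by
      rw [← ConcreteCategory.comp_apply, ← T.map_comp]
      exact congrArg (fun φ => T.map φ q) (colimit.ι_post D S j)
    refine ⟨(injective_iff_map_eq_zero (T.map (colimit.post D S)).hom).mpr fun p hp => ?_,
      fun p => ?_⟩
    · obtain ⟨i, q, rfl⟩ := Concrete.isColimit_exists_rep _ h2 p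
      obtain ⟨V, φ, s, rfl⟩ := EtaleSite.exists_germ_eq η (S.obj (D.obj i)) q
      have hp' := (hpost i _).symm.trans hp
      rw [EtaleSite.germ_naturality, ← map_zero (EtaleSite.germ η (S.obj c.pt) V φ).hom] at hp'
      obtain ⟨V', g, ψ, rfl, hz⟩ := (EtaleSite.germ_eq_iff η _ V φ _ _).1 hp'
      rw [map_zero] at hz
      obtain ⟨W, g', χ, hW, rfl⟩ := exists_affine_nhd η V' ψ
      let s' : shriekSubgroup f (D.obj i) W := (S.obj (D.obj i)).obj.map (g' ≫ g).op s
      have hs' : (c.ι.app i).hom.app (op ((EtCoh.bc f).obj W)) s'.1 = 0 := by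
        have e : (S.map (c.ι.app i)).hom.app (op W) s' = 0 := by
          refine (NatTrans.naturality_apply (S.map (c.ι.app i)).hom (g' ≫ g).op s).trans ?_
          rw [op_comp, Functor.map_comp, ConcreteCategory.comp_apply, hz, map_zero]
        exact congrArg Subtype.val e
      obtain ⟨k, a, hk⟩ := exists_zero_stage f D c hc W s' hs'
      show T.map (colimit.ι (D ⋙ S) i) _ = 0
      rw [← FunctorToTypes.map_comp_apply, ← EtaleSite.germ_res η _ (g' ≫ g),
        ← colimit.w (D ⋙ S) a, T.map_comp, ConcreteCategory.comp_apply]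
      refine (congrArg (T.map (colimit.ι (D ⋙ S) k))
        (EtaleSite.germ_naturality η ((D ⋙ S).map a) W χ s')).trans ?_
      have e : ((D ⋙ S).map a).hom.app (op W) s' = 0 := Subtype.ext hk
      rw [e]
      exact (congrArg (T.map (colimit.ι (D ⋙ S) k)) (map_zero _)).trans (map_zero _)
    · obtain ⟨V, φ, t, rfl⟩ := EtaleSite.exists_germ_eq η (S.obj c.pt) p
      obtain ⟨W, g, ψ, hW, rfl⟩ := exists_affine_nhd η V φ
      obtain ⟨i, s, hs⟩ := exists_lift_stage f D c hc W ((S.obj c.pt).obj.map g.op t)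
      refine ⟨T.map (colimit.ι (D ⋙ S) i) (EtaleSite.germ η (S.obj (D.obj i)) W ψ s), ?_⟩
      refine (hpost i _).trans ?_
      rw [EtaleSite.germ_naturality, ← EtaleSite.germ_res η (S.obj c.pt) g ψ t]
      exact congrArg _ (Subtype.ext hs)
  have := EtaleSite.isIso_of_stalk _ this
  exact preservesColimit_of_isIso_post _ _

end FilteredColimits

end Groth.Agent.EtShriekLib
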