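import Groth.Prelude.Def_EtShriek2
import Groth.Agent.EtaleSite.Points
import Groth.Agent.EtaleSite.Clopen

/-!
# Supports of sections
-/

universe u

open CategoryTheory CategoryTheory.Limits AlgebraicGeometry Opposite

namespace Groth.Agent.EtShriekLib

open EtShriek (sectSupp)

variable {X : Scheme.{u}} (F : EtCoh.Ab X)

/-- Transition maps of the small étale site are étale. -/
theorem etale_left {W U : X.Etale} (g : W ⟶ U) : Etale g.left := by
  have : Etale U.hom := U.prop
  have : Etale (g.left ≫ U.hom) := by rw [MorphismProperty.Over.w g]; exact W.prop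
  exact Etale.of_comp g.left U.hom

theorem notMem_sectSupp_iff {U : X.Etale} (s : EtCoh.sect F U) (x : U.left) :
    x ∉ sectSupp F U s ↔ ∃ (W : X.Etale) (g : W ⟶ U), (∃ w : W.left, g.left.base w = x) ∧
      F.obj.map g.op s = 0 := by
  simp only [sectSupp, Set.mem_setOf_eq, not_forall, not_not, exists_prop]

theorem isClosed_sectSupp (U : X.Etale) (s : EtCoh.sect F U) : IsClosed (sectSupp F U s) := by
  rw [← isOpen_compl_iff, isOpen_iff_forall_mem_open]
  intro x hx
  obtain ⟨W, g, hw, h0⟩ := (notMem_sectSupp_iff F s x).mp hx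
  have := etale_left g
  exact ⟨Set.range g.left.base,
    fun y ⟨w, hw⟩ => (notMem_sectSupp_iff F s y).mpr ⟨W, g, ⟨w, hw⟩, h0⟩,
    g.left.isOpenMap.isOpen_range, hw⟩

/-- The germ at a geometric point vanishes iff the point is off the support. -/
theorem germ_eq_zero_iff {U : X.Etale} (s : EtCoh.sect F U) {Ω : Type u} [Field Ω] [IsSepClosed Ω]
    (ξ : Spec (CommRingCat.of Ω) ⟶ X) (x : (Scheme.pointSmallEtale ξ).fiber.obj U) :
    EtaleSite.germ ξ F U x s = 0 ↔
      x.left (default : Spec (CommRingCat.of Ω)) ∉ sectSupp F U s := by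
  rw [← map_zero (EtaleSite.germ ξ F U x).hom]
  refine (EtaleSite.germ_eq_iff ξ F U x s 0).trans (Iff.trans ⟨?_, ?_⟩ (notMem_sectSupp_iff F s _).symm)
  · rintro ⟨W, g, y, hy, h0⟩
    let yl : Spec (CommRingCat.of Ω) ⟶ W.left := y.left
    exact ⟨W, g, ⟨yl default, congrArg (fun q => q.left (default : Spec (CommRingCat.of Ω))) hy⟩, by rw [h0, map_zero]⟩
  · rintro ⟨W, g, ⟨w, hw⟩, h0⟩
    have := etale_left g
    let xl : Spec (CommRingCat.of Ω) ⟶ U.left := x.left
    obtain ⟨l, hl, -⟩ := Scheme.exists_fac_of_etale_of_isSepClosed g.left xl w hw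
    let y : (Scheme.pointSmallEtale ξ).fiber.obj W :=
      (Over.homMk l (by
        show l ≫ W.hom = ξ
        rw [← MorphismProperty.Over.w g, ← Category.assoc, hl]
        exact Over.w x) : Over.mk ξ ⟶ (Scheme.Etale.forget X).obj W)
    exact ⟨W, g, y, Over.OverMorphism.ext hl, by rw [h0, map_zero]⟩

/-- The standard geometric point of `U` at `x`, as a point of the fibre. -/
noncomputable def stdPt (U : X.Etale) (x : U.left) :
    (Scheme.pointSmallEtale (EtaleSite.geomPointAt U.left x ≫ U.hom)).fiber.obj U :=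
  (Over.homMk (EtaleSite.geomPointAt U.left x) rfl :
    Over.mk (EtaleSite.geomPointAt U.left x ≫ U.hom) ⟶ (Scheme.Etale.forget X).obj U)

theorem mem_sectSupp_iff {U : X.Etale} (s : EtCoh.sect F U) (x : U.left) :
    x ∈ sectSupp F U s ↔
      EtaleSite.germ (EtaleSite.geomPointAt U.left x ≫ U.hom) F U (stdPt U x) s ≠ 0 := by
  rw [ne_eq, germ_eq_zero_iff, not_not]
  exact iff_of_eq (congrArg (· ∈ sectSupp F U s) (EtaleSite.geomPointAt_apply U.left x _).symm)

theorem sectSupp_map {U' U : X.Etale} (φ : U' ⟶ U) (s : EtCoh.sect F U) :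
    sectSupp F U' (F.obj.map φ.op s) = φ.left.base ⁻¹' sectSupp F U s := by
  ext x
  rw [mem_sectSupp_iff, EtaleSite.germ_res, ne_eq, germ_eq_zero_iff, not_not]
  exact iff_of_eq (congrArg (· ∈ sectSupp F U s)
    (congrArg φ.left.base (EtaleSite.geomPointAt_apply U'.left x _)))

theorem sectSupp_zero (U : X.Etale) : sectSupp F U 0 = ∅ := by
  ext x
  simp [mem_sectSupp_iff]

theorem sectSupp_neg {U : X.Etale} (s : EtCoh.sect F U) : sectSupp F U (-s) = sectSupp F U s := by
  ext x
  simp [mem_sectSupp_iff]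

theorem sectSupp_add {U : X.Etale} (s t : EtCoh.sect F U) :
    sectSupp F U (s + t) ⊆ sectSupp F U s ∪ sectSupp F U t := by
  intro x
  contrapose!
  intro h
  simp only [Set.mem_union, mem_sectSupp_iff, not_or, ne_eq, not_not] at h
  simp [mem_sectSupp_iff, h.1, h.2]

/-- A section without support vanishes. -/
theorem eq_zero_of_sectSupp_empty {U : X.Etale} (s : EtCoh.sect F U) (h : sectSupp F U s = ∅) :
    s = 0 :=
  EtaleSite.sect_ext _ _ fun Ω _ _ ξ x => by
    rw [map_zero, germ_eq_zero_iff, h]; exact Set.notMem_empty _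

theorem sectSupp_app_of_mono {F G : EtCoh.Ab X} (α : F ⟶ G) [Mono α] (U : X.Etale)
    (s : EtCoh.sect F U) : sectSupp G U (α.hom.app (op U) s) = sectSupp F U s := by
  refine subset_antisymm (EtShriek.sectSupp_map_subset α U s) fun x hx => ?_
  intro W g hw h0
  refine hx W g hw ?_
  have : Mono ((sheafToPresheaf X.smallEtaleTopology AddCommGrpCat.{u + 1}).map α) := inferInstance
  have hinj : Function.Injective (α.hom.app (op W)) :=
    (AddCommGrpCat.mono_iff_injective _).mp
      (inferInstanceAs (Mono (((sheafToPresheaf _ _).map α).app (op W))))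
  refine hinj ?_
  rw [map_zero, ← h0]
  exact NatTrans.naturality_apply α.hom g.op s

end Groth.Agent.EtShriekLib
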