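import Groth.Agent.EtShriekLib.Exact
import Groth.Agent.EtaleSite.OpenImm
import Groth.Agent.EtaleSite.PushStalk
import Groth.Agent.EtaleSite.Clopen
import Mathlib.RingTheory.Unramified.LocalStructure

/-!
# Extension by zero along a separated étale morphism is `j_!`
-/

universe u

open CategoryTheory CategoryTheory.Limits AlgebraicGeometry Opposite

namespace Groth.Agent.EtShriekLib

open EtShriek (sectSupp prV shriekSubgroup compEtale)
open EtaleSite (germ bcPt)

variable {U X : Scheme.{u}} (j : U ⟶ X) [Etale j] [IsSeparated j]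

/-- The tautological section of `W ×_X U → W`. -/
noncomputable def taut (W : U.Etale) : W ⟶ (EtCoh.bc j).obj ((compEtale j).obj W) :=
  (EtaleSite.compEtaleBcAdj j).unit.app W

omit [IsSeparated j] in
theorem taut_prV (W : U.Etale) : (taut j W).left ≫ prV j ((compEtale j).obj W) = 𝟙 W.left := by
  have := congrArg (fun q => q.left) ((EtaleSite.compEtaleBcAdj j).left_triangle_components W)
  have hc : ((EtaleSite.compEtaleBcAdj j).counit.app ((compEtale j).obj W)).left =
      pullback.fst ((compEtale j).obj W).hom j := by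
    simp [EtaleSite.compEtaleBcAdj, MorphismProperty.Over.mapPullbackAdj]
  exact (congrArg ((taut j W).left ≫ ·) hc.symm).trans this

/-- Étale morphisms are locally quasi-finite. -/
instance locallyQuasiFinite_of_etale : LocallyQuasiFinite j := by
  refine ⟨fun {V} hV {W} hW e => ?_⟩
  have h2 := j.etale_appLE hV hW e
  have h1 := h2.formallyUnramified
  algebraize [(j.appLE V W e).hom]
  exact RingHom.quasiFinite_algebraMap.2 inferInstance

instance etale_prV (V : X.Etale) : Etale (prV j V) :=
  MorphismProperty.pullback_fst (P := @Etale) _ _ ‹_›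

instance isOpenImmersion_taut (W : U.Etale) : IsOpenImmersion (taut j W).left :=
  EtaleSite.isOpenImmersion_of_section (prV j ((compEtale j).obj W)) _ (taut_prV j W)

instance isClosedImmersion_taut (W : U.Etale) : IsClosedImmersion (taut j W).left := by
  have : IsClosedImmersion ((taut j W).left ≫ prV j ((compEtale j).obj W)) := by
    rw [taut_prV]; exact MorphismProperty.id_mem @IsClosedImmersion _
  exact IsClosedImmersion.of_comp _ (prV j ((compEtale j).obj W))

theorem taut_isPullback {W' W : U.Etale} (g : W' ⟶ W) :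
    IsPullback g.left (taut j W').left (taut j W).left
      ((EtCoh.bc j).map ((compEtale j).map g)).left := by
  refine IsPullback.of_bot ?_ ?_ (prV_isPullback j ((compEtale j).map g))
  · rw [taut_prV, taut_prV]
    exact IsPullback.id_vert g.left
  · exact (congrArg (fun q => q.left) ((EtaleSite.compEtaleBcAdj j).unit.naturality g))

theorem exists_supported (F : EtCoh.Ab U) (W : U.Etale) (s : EtCoh.sect F W) :
    ∃ t : EtCoh.sect F ((EtCoh.bc j).obj ((compEtale j).obj W)),
      F.obj.map (taut j W).op t = s ∧ sectSupp F _ t ⊆ Set.range (taut j W).left := by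
  classical
  let T := (EtCoh.bc j).obj ((compEtale j).obj W)
  let S : Scheme.{u} := T.left
  let r : W.left ⟶ S := (taut j W).left
  let O : S.Opens := r.opensRange
  let O' : S.Opens := ⟨(Set.range r)ᶜ, r.isClosedEmbedding.isClosed_range.isOpen_compl⟩
  let kO : EtaleSite.piece T O ⟶ W := MorphismProperty.Over.homMk r.isoOpensRange.inv (by
    show r.isoOpensRange.inv ≫ W.hom = O.ι ≫ T.hom
    rw [Iso.inv_comp_eq, ← Category.assoc, Scheme.Hom.isoOpensRange_hom_ι]
    exact (MorphismProperty.Over.w (taut j W)).symm) trivial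
  let Wp : ULift.{u} Bool → T.left.Opens := fun i => cond i.down O O'
  obtain ⟨t, ht⟩ := EtaleSite.exists_glue_disjoint (U := T) F Wp
    (by
      rintro ⟨_ | _⟩ ⟨_ | _⟩ hne
      · exact absurd rfl hne
      · exact disjoint_iff.mpr (le_bot_iff.mp fun z hz => hz.1 hz.2)
      · exact disjoint_iff.mpr (le_bot_iff.mp fun z hz => hz.2 hz.1)
      · exact absurd rfl hne)
    (fun z => if hz : z ∈ O then ⟨⟨true⟩, hz⟩ else ⟨⟨false⟩, hz⟩)
    (fun ⟨i⟩ => match i with | true => F.obj.map kO.op s | false => 0)
  refine ⟨t, ?_, fun z hz => ?_⟩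
  · let a : W ⟶ EtaleSite.piece T O := MorphismProperty.Over.homMk r.isoOpensRange.hom (by
      show r.isoOpensRange.hom ≫ O.ι ≫ T.hom = W.hom
      rw [← Category.assoc, Scheme.Hom.isoOpensRange_hom_ι]
      exact MorphismProperty.Over.w (taut j W)) trivial
    have e : a ≫ EtaleSite.pieceHom T O = taut j W :=
      MorphismProperty.Over.Hom.ext (Scheme.Hom.isoOpensRange_hom_ι r)
    have e' : a ≫ kO = 𝟙 W := MorphismProperty.Over.Hom.ext r.isoOpensRange.hom_inv_id
    rw [← e, op_comp, Functor.map_comp, ConcreteCategory.comp_apply,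
      show F.obj.map (EtaleSite.pieceHom T O).op t = F.obj.map kO.op s from ht ⟨true⟩,
      ← ConcreteCategory.comp_apply, ← Functor.map_comp, ← op_comp, e']
    simp
  · by_contra hzO
    have : (⟨z, hzO⟩ : O') ∈ sectSupp F (EtaleSite.piece T O')
        (F.obj.map (EtaleSite.pieceHom T O').op t) := by
      rw [sectSupp_map]; exact hz
    rw [show F.obj.map (EtaleSite.pieceHom T O').op t = 0 from ht ⟨false⟩, sectSupp_zero] at this
    exact this

theorem supported_ext (F : EtCoh.Ab U) (W : U.Etale)
    (t t' : EtCoh.sect F ((EtCoh.bc j).obj ((compEtale j).obj W)))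
    (h : F.obj.map (taut j W).op t = F.obj.map (taut j W).op t')
    (ht : sectSupp F _ t ⊆ Set.range (taut j W).left)
    (ht' : sectSupp F _ t' ⊆ Set.range (taut j W).left) : t = t' := by
  rw [← sub_eq_zero]
  refine eq_zero_of_sectSupp_empty F _ (Set.eq_empty_iff_forall_notMem.mpr fun z hz => ?_)
  have hzr : z ∈ Set.range (taut j W).left := by
    rw [sub_eq_add_neg] at hz
    rcases sectSupp_add F _ _ hz with h1 | h1
    · exact ht h1
    · rw [sectSupp_neg] at h1; exact ht' h1
  obtain ⟨w, rfl⟩ := hzr
  have : w ∈ sectSupp F W (F.obj.map (taut j W).op (t - t')) := by rw [sectSupp_map]; exact hz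
  rw [map_sub, h, sub_self, sectSupp_zero] at this
  exact this

/-- The section of `j_! F` over `W → U → X` extending `s` by zero. -/
noncomputable def extSect (F : EtCoh.Ab U) (W : U.Etale) (s : EtCoh.sect F W) :
    shriekSubgroup j F ((compEtale j).obj W) :=
  ⟨(exists_supported j F W s).choose, by
    rw [mem_shriekSubgroup_iff]
    have : IsProper ((taut j W).left ≫ prV j ((compEtale j).obj W)) := by
      rw [taut_prV]; exact MorphismProperty.id_mem @IsProper _
    exact ipo_of_immersion _ (taut j W).left (isClosed_sectSupp F _ _)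
      (exists_supported j F W s).choose_spec.2⟩

theorem map_extSect (F : EtCoh.Ab U) (W : U.Etale) (s : EtCoh.sect F W) :
    F.obj.map (taut j W).op (extSect j F W s).1 = s :=
  (exists_supported j F W s).choose_spec.1

theorem supp_extSect (F : EtCoh.Ab U) (W : U.Etale) (s : EtCoh.sect F W) :
    sectSupp F _ (extSect j F W s).1 ⊆ Set.range (taut j W).left :=
  (exists_supported j F W s).choose_spec.2

theorem extSect_add (F : EtCoh.Ab U) (W : U.Etale) (s s' : EtCoh.sect F W) :
    extSect j F W (s + s') = extSect j F W s + extSect j F W s' :=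
  Subtype.ext (supported_ext j F W _ _ (by
      rw [AddSubgroup.coe_add, map_add, map_extSect, map_extSect, map_extSect])
    (supp_extSect j F W _) ((sectSupp_add F _ _).trans
      (Set.union_subset (supp_extSect j F W _) (supp_extSect j F W _))))

variable [EtShriek.JCont j]

/-- Extension by zero as a map `F → j⁻¹ j_! F`. -/
noncomputable def extSectHom (F : EtCoh.Ab U) :
    F ⟶ (EtShriek.restrAlong j).obj ((shriek₀ j).obj F) :=
  ⟨{ app := fun W => AddCommGrpCat.ofHom (AddMonoidHom.mk' (extSect j F W.unop) (extSect_add j F W.unop))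
     naturality := fun W W' g => AddCommGrpCat.hom_ext (DFunLike.ext _ _ fun s => by
       refine Subtype.ext (supported_ext j F W'.unop _ _ ?_ (supp_extSect j F _ _) ?_)
       · show F.obj.map (taut j W'.unop).op (extSect j F W'.unop (F.obj.map g s)).1 =
           F.obj.map (taut j W'.unop).op (F.obj.map ((EtCoh.bc j).map ((compEtale j).map g.unop)).op
             (extSect j F W.unop s).1)
         have hnat : taut j W'.unop ≫ (EtCoh.bc j).map ((compEtale j).map g.unop) = g.unop ≫ taut j W.unop :=
           ((EtaleSite.compEtaleBcAdj j).unit.naturality g.unop).symm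
         rw [map_extSect, ← ConcreteCategory.comp_apply, ← Functor.map_comp, ← op_comp, hnat, op_comp,
           Functor.map_comp, ConcreteCategory.comp_apply, map_extSect]
         rfl
       · show sectSupp F _ (F.obj.map ((EtCoh.bc j).map ((compEtale j).map g.unop)).op
             (extSect j F W.unop s).1) ⊆ _
         rw [sectSupp_map]
         intro z hz
         obtain ⟨w, hw⟩ := supp_extSect j F W.unop s hz
         obtain ⟨p, -, hp⟩ := Scheme.exists_preimage_of_isPullback (taut_isPullback j g.unop) w z hw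
         exact ⟨p, hp⟩) }⟩

theorem extSectHom_app (F : EtCoh.Ab U) (W : U.Etale) (s : EtCoh.sect F W) :
    (extSectHom j F).hom.app (op W) s = extSect j F W s := rfl

/-- `j_! → f_!`, the canonical comparison. -/
noncomputable def extZeroToShriek : EtShriek.extZero j ⟶ shriek₀ j where
  app F := ((EtShriek.extZeroAdj j).homEquiv _ _).symm (extSectHom j F)
  naturality {F G} a := by
    rw [← (EtShriek.extZeroAdj j).homEquiv_naturality_right_symm,
      ← (EtShriek.extZeroAdj j).homEquiv_naturality_left_symm]
    congr 1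
    ext W s
    refine Subtype.ext (supported_ext j G W.unop _ _ ?_ (supp_extSect j G _ _) ?_)
    · show G.obj.map (taut j W.unop).op (extSect j G W.unop (a.hom.app W s)).1 =
        G.obj.map (taut j W.unop).op (a.hom.app _ (extSect j F W.unop s).1)
      rw [map_extSect, ← NatTrans.naturality_apply, map_extSect]
    · exact (EtShriek.sectSupp_map_subset a _ _).trans (supp_extSect j F W.unop s)

section Stalk

variable {Ω : Type u} [Field Ω] [IsAlgClosed Ω] (η : Spec (CommRingCat.of Ω) ⟶ X) (F : EtCoh.Ab U)

/-- A point of `W` over `η` as a point of `W → U → X`. -/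
noncomputable def compPt (ξ : PointsOver j η) (W : U.Etale)
    (x : (Scheme.pointSmallEtale ξ.1).fiber.obj W) :
    (Scheme.pointSmallEtale η).fiber.obj ((compEtale j).obj W) :=
  (Over.homMk x.left (by
    show x.left ≫ W.hom ≫ j = η
    exact (Category.assoc _ _ _).symm.trans ((congrArg (· ≫ j) (Over.w x)).trans ξ.2)) :
      Over.mk η ⟶ (Scheme.Etale.forget X).obj ((compEtale j).obj W))

/-- The summand at `ξ` of a stalk of `j_!`. -/
noncomputable def summand (ξ : PointsOver j η) :
    (EtCoh.stalk ξ.1).obj F ⟶ (EtCoh.stalk η).obj ((EtShriek.extZero j).obj F) :=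
  (Scheme.pointSmallEtale ξ.1).presheafFiberDesc
    (fun W x => ((EtShriek.extZeroAdj j).unit.app F).hom.app (op W) ≫
      germ η ((EtShriek.extZero j).obj F) ((compEtale j).obj W) (compPt j η ξ W x))
    (fun W W' g x => by
      exact ((reassoc_of% (((EtShriek.extZeroAdj j).unit.app F).hom.naturality g.op)) _).trans
        (congrArg (_ ≫ ·) ((Scheme.pointSmallEtale η).toPresheafFiber_w ((compEtale j).map g)
          (compPt j η ξ W x) _)))

theorem summand_germ (ξ : PointsOver j η) (W : U.Etale)
    (x : (Scheme.pointSmallEtale ξ.1).fiber.obj W) (s : EtCoh.sect F W) :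
    summand j η F ξ (germ ξ.1 F W x s) =
      germ η ((EtShriek.extZero j).obj F) ((compEtale j).obj W) (compPt j η ξ W x)
        (((EtShriek.extZeroAdj j).unit.app F).hom.app (op W) s) :=
  ConcreteCategory.congr_hom
    ((Scheme.pointSmallEtale ξ.1).toPresheafFiber_presheafFiberDesc _ _ W x) s

theorem summand_comp (ξ : PointsOver j η) :
    summand j η F ξ ≫ (EtCoh.stalk η).map ((extZeroToShriek j).app F) = single j η F ξ := by
  ext q
  obtain ⟨W, x, s, rfl⟩ := EtaleSite.exists_germ_eq ξ.1 F q
  rw [ConcreteCategory.comp_apply, summand_germ, EtaleSite.germ_naturality]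
  have hu : ((extZeroToShriek j).app F).hom.app (op ((compEtale j).obj W))
      (((EtShriek.extZeroAdj j).unit.app F).hom.app (op W) s) = extSect j F W s := by
    have := congrArg (fun q => q.hom.app (op W) s)
      (((EtShriek.extZeroAdj j).homEquiv_unit _ _ ((extZeroToShriek j).app F)).symm.trans
        (((EtShriek.extZeroAdj j).homEquiv _ _).apply_symm_apply (extSectHom j F)))
    exact this
  rw [hu]
  refine eq_of_cmpS j η F _ _ fun ξ' => ?_
  rw [cmpS_germ]
  let xl : Spec (CommRingCat.of Ω) ⟶ W.left := x.left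
  by_cases hξ : ξ' = ξ
  · subst hξ
    rw [cmpS_single_self]
    have e : (Scheme.pointSmallEtale ξ'.1).fiber.map (taut j W) x =
        bcPt j ξ'.1 ξ'.2 ((compEtale j).obj W) (compPt j η ξ' W x) := by
      refine Over.OverMorphism.ext (pullback.hom_ext ?_ ?_)
      · refine Eq.trans ?_ (pullback.lift_fst _ _ _).symm
        exact (Category.assoc _ _ _).trans ((congrArg (xl ≫ ·) (taut_prV j W)).trans (Category.comp_id _))
      · refine Eq.trans ?_ (pullback.lift_snd _ _ _).symm
        exact (Category.assoc _ _ _).trans ((congrArg (xl ≫ ·) (MorphismProperty.Over.w (taut j W))).trans (Over.w x))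
    rw [← e, ← EtaleSite.germ_res, map_extSect]
  · rw [cmpS_single_ne j η F ξ ξ' hξ, germ_eq_zero_iff]
    intro hmem
    apply hξ
    let L : Spec (CommRingCat.of Ω) ⟶ ((EtCoh.bc j).obj ((compEtale j).obj W)).left :=
      (bcPt j ξ'.1 ξ'.2 ((compEtale j).obj W) (compPt j η ξ W x)).left
    let l := IsOpenImmersion.lift (taut j W).left L (by
      rintro _ ⟨o, rfl⟩
      rw [Subsingleton.elim o default]
      exact supp_extSect j F W s hmem)
    have hl : l ≫ (taut j W).left = L := IsOpenImmersion.lift_fac _ _ _
    have hlx : l = xl :=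
      (((congrArg (l ≫ ·) (taut_prV j W)).trans (Category.comp_id l)).symm.trans
        ((Category.assoc _ _ _).symm.trans (congrArg (· ≫ prV j ((compEtale j).obj W)) hl))).trans
        (pullback.lift_fst _ _ _)
    refine Subtype.ext ?_
    have h2 : L ≫ ((EtCoh.bc j).obj ((compEtale j).obj W)).hom = ξ'.1 := pullback.lift_snd _ _ _
    rw [← h2, ← hl]
    exact (Category.assoc _ _ _).trans ((congrArg (l ≫ ·) (MorphismProperty.Over.w (taut j W))).trans
      ((congrArg (· ≫ W.hom) hlx).trans (Over.w x)))

omit [IsSeparated j] in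
theorem summand_jointly_epi {A : AddCommGrpCat.{u + 1}}
    (a b : (EtCoh.stalk η).obj ((EtShriek.extZero j).obj F) ⟶ A)
    (h : ∀ ξ, summand j η F ξ ≫ a = summand j η F ξ ≫ b) : a = b := by
  let P := Scheme.pointSmallEtale η
  refine (P.skyscraperSheafAdjunction.homEquiv _ _).injective
    (((EtShriek.extZeroAdj j).homEquiv _ _).injective ?_)
  ext W : 3
  refine Pi.hom_ext _ _ fun (φ : P.fiber.obj ((compEtale j).obj W.unop)) => ?_
  let ξ : PointsOver j η := ⟨φ.left ≫ W.unop.hom, (Category.assoc _ _ _).trans (Over.w φ)⟩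
  let x : (Scheme.pointSmallEtale ξ.1).fiber.obj W.unop :=
    (Over.homMk φ.left rfl : Over.mk ξ.1 ⟶ (Scheme.Etale.forget U).obj W.unop)
  have key : ∀ c : (EtCoh.stalk η).obj ((EtShriek.extZero j).obj F) ⟶ A,
      ((EtShriek.extZeroAdj j).homEquiv _ _ (P.skyscraperSheafAdjunction.homEquiv _ _ c)).hom.app W ≫
          Pi.π (fun _ : P.fiber.obj ((compEtale j).obj W.unop) => A) φ =
        germ ξ.1 F W.unop x ≫ summand j η F ξ ≫ c := by
    intro c
    rw [Adjunction.homEquiv_unit]
    refine (Category.assoc _ _ _).trans ?_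
    rw [← Category.assoc (germ ξ.1 F W.unop x)]
    refine Eq.trans ?_ (congrArg (· ≫ c)
      ((Scheme.pointSmallEtale ξ.1).toPresheafFiber_presheafFiberDesc _ _ W.unop x).symm)
    refine Eq.trans ?_ (Category.assoc _ _ _).symm
    exact congrArg (_ ≫ ·) (EtaleSite.skyscraper_homEquiv_π P _ _ c _ φ)
  exact (key a).trans ((congrArg (germ ξ.1 F W.unop x ≫ ·) (h ξ)).trans (key b).symm)

theorem isIso_stalk_extZeroToShriek :
    IsIso ((EtCoh.stalk η).map ((extZeroToShriek j).app F)) := by
  let θ := (EtCoh.stalk η).map ((extZeroToShriek j).app F)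
  let d := (isColimitSingle j η F).desc (Cofan.mk _ (summand j η F))
  have hd : ∀ ξ, single j η F ξ ≫ d = summand j η F ξ := fun ξ =>
    (isColimitSingle j η F).fac (Cofan.mk _ (summand j η F)) ⟨ξ⟩
  refine ⟨d, summand_jointly_epi j η F _ _ fun ξ => ?_, (isColimitSingle j η F).hom_ext fun ⟨ξ⟩ => ?_⟩
  · rw [← Category.assoc, summand_comp, hd, Category.comp_id]
  · show single j η F ξ ≫ d ≫ θ = single j η F ξ ≫ 𝟙 _
    rw [← Category.assoc, hd, summand_comp, Category.comp_id]

end Stalk

/-- `j_! ≅ f_!` for a separated étale morphism. -/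
theorem nonempty_extZero_iso : Nonempty (EtShriek.extZero j ≅ EtShriek.lowerShriek j) := by
  have : ∀ F, IsIso ((extZeroToShriek j).app F) := fun F => EtaleSite.isIso_of_stalk _ fun Ω _ _ η => by
    let σ : Spec (CommRingCat.of (AlgebraicClosure Ω)) ⟶ Spec (CommRingCat.of Ω) :=
      Spec.map (CommRingCat.ofHom (algebraMap Ω (AlgebraicClosure Ω)))
    rw [NatIso.isIso_map_iff (EtaleSite.stalkExtIso σ η)]
    exact isIso_stalk_extZeroToShriek j _ F
  exact ⟨(@asIso _ _ _ _ _ (NatIso.isIso_of_isIso_app (extZeroToShriek j))) ≪≫ (shriekIso j).symm⟩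

end Groth.Agent.EtShriekLib
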