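import Groth.Agent.EtShriekLib.Pred

/-!
# Direct image with proper support as a subsheaf of the direct image
-/

universe u

open CategoryTheory CategoryTheory.Limits AlgebraicGeometry Opposite

namespace Groth.Agent.EtShriekLib

open EtShriek (sectSupp prV)

variable {X Y : Scheme.{u}} (f : X ⟶ Y) [LocallyOfFiniteType f]

/-- Sections with proper support, as a functor to sheaves. -/
noncomputable def shriek₀ : EtCoh.Ab X ⥤ EtCoh.Ab Y where
  obj F := ⟨EtShriek.lowerShriekPre f F, isSheaf_lowerShriekPre f F⟩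
  map α := ⟨(EtShriek.lowerShriekPreFunctor f).map α⟩
  map_id F := Sheaf.hom_ext ((EtShriek.lowerShriekPreFunctor f).map_id F)
  map_comp α β := Sheaf.hom_ext ((EtShriek.lowerShriekPreFunctor f).map_comp α β)

/-- `f_!` needs no sheafification. -/
noncomputable def shriekIso : EtShriek.lowerShriek f ≅ shriek₀ f :=
  Functor.isoWhiskerRight (NatIso.ofComponents (fun _ => Iso.refl _) (fun α => by
      exact (Category.comp_id _).trans (Category.id_comp _).symm) :
      EtShriek.lowerShriekPreFunctor f ≅ shriek₀ f ⋙ sheafToPresheaf _ _) _ ≪≫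
    Functor.associator _ _ _ ≪≫
    Functor.isoWhiskerLeft (shriek₀ f)
      (asIso (sheafificationAdjunction Y.smallEtaleTopology AddCommGrpCat.{u + 1}).counit) ≪≫
    (shriek₀ f).rightUnitor

/-- `f_! ⟶ f_*`. -/
noncomputable def shriek₀ι : shriek₀ f ⟶ EtCoh.push f where
  app F := ⟨EtShriek.lowerShriekPreι f F⟩
  naturality F G α := by
    refine Sheaf.hom_ext (NatTrans.ext (funext fun V => ?_))
    exact AddCommGrpCat.hom_ext (DFunLike.ext _ _ fun s => rfl)

theorem lowerShriekToPush_eq (F : EtCoh.Ab X) :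
    EtShriek.lowerShriekToPush f F = (shriekIso f).hom.app F ≫ (shriek₀ι f).app F := by
  let adj := sheafificationAdjunction Y.smallEtaleTopology AddCommGrpCat.{u + 1}
  have h := adj.homEquiv_counit (EtShriek.lowerShriekPre f F) ((EtCoh.push f).obj F)
    (EtShriek.lowerShriekPreι f F)
  refine h.trans ?_
  have e : (shriekIso f).hom.app F = adj.counit.app ((shriek₀ f).obj F) := by
    simp [shriekIso, adj]
    erw [CategoryTheory.Functor.map_id, Category.id_comp]
  rw [e]
  exact adj.counit.naturality ((shriek₀ι f).app F)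

instance mono_shriek₀ι (F : EtCoh.Ab X) : Mono ((shriek₀ι f).app F) := by
  have : Mono ((sheafToPresheaf Y.smallEtaleTopology AddCommGrpCat.{u + 1}).map ((shriek₀ι f).app F)) := by
    have : ∀ V, Mono ((EtShriek.lowerShriekPreι f F).app V) := fun V =>
      (AddCommGrpCat.mono_iff_injective _).mpr Subtype.val_injective
    exact NatTrans.mono_of_mono_app (EtShriek.lowerShriekPreι f F)
  exact (sheafToPresheaf _ _).mono_of_mono_map this

/-- The support of a section of `f_!` is the image of its support. -/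
theorem sectSupp_shriek₀ (F : EtCoh.Ab X) (V : Y.Etale)
    (s : EtShriek.shriekSubgroup f F V) :
    sectSupp ((shriek₀ f).obj F) V s = prV f V '' sectSupp F ((EtCoh.bc f).obj V) s.1 := by
  have hs := (mem_shriekSubgroup_iff f F V s.1).mp s.2
  apply subset_antisymm
  · intro v hv
    by_contra hv'
    have hcl : IsClosed (prV f V '' sectSupp F ((EtCoh.bc f).obj V) s.1) := by
      have := isProper_redι _ hs
      have h := (redι hs.1 ≫ prV f V).isClosedMap.isClosed_range
      rwa [show (⇑(redι hs.1 ≫ prV f V)) = ⇑(prV f V) ∘ ⇑(redι hs.1) from rfl, Set.range_comp,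
        range_redι] at h
    let O : V.left.Opens := ⟨_, hcl.isOpen_compl⟩
    refine hv (EtaleSite.piece V O) (EtaleSite.pieceHom V O) ⟨(⟨v, hv'⟩ : O), rfl⟩ (Subtype.ext ?_)
    refine eq_zero_of_sectSupp_empty F _ (Set.eq_empty_iff_forall_notMem.mpr fun x hx => ?_)
    have hx' : ((EtCoh.bc f).map (EtaleSite.pieceHom V O)).left x ∈
        sectSupp F ((EtCoh.bc f).obj V) s.1 :=
      (sectSupp_map F ((EtCoh.bc f).map (EtaleSite.pieceHom V O)) s.1).le hx
    refine (prV f (EtaleSite.piece V O) x).2 ⟨_, hx', ?_⟩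
    exact congrArg (fun q => q.base x) (prV_isPullback f (EtaleSite.pieceHom V O)).w
  · rintro _ ⟨x, hx, rfl⟩ W g ⟨w, hw⟩ h0
    obtain ⟨p, hp₁, -⟩ := Scheme.exists_preimage_of_isPullback
      (prV_isPullback f g).flip.flip x w hw.symm
    have h0' : F.obj.map ((EtCoh.bc f).map g).op s.1 = 0 := congrArg Subtype.val h0
    have : p ∈ sectSupp F ((EtCoh.bc f).obj W) (F.obj.map ((EtCoh.bc f).map g).op s.1) := by
      rw [sectSupp_map]
      show _ ∈ sectSupp F _ s.1
      rw [hp₁]; exact hx
    rw [h0', sectSupp_zero] at this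
    exact this

end Groth.Agent.EtShriekLib
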