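import Mathlib.CategoryTheory.Limits.Constructions.Filtered
import Mathlib.CategoryTheory.Limits.Preserves.Filtered

/-!
# Finite coproducts and filtered colimits give all coproducts
-/

set_option backward.isDefEq.respectTransparency false
set_option backward.defeqAttrib.useBackward true

universe w v v' u u'

open CategoryTheory CategoryTheory.Limits CoproductsFromFiniteFiltered

namespace Groth.Agent.EtShriekLib

theorem preservesCoproducts_of_finite_and_filtered {C : Type u} [Category.{v} C] {C' : Type u'}
    [Category.{v'} C'] [HasFiniteCoproducts C] [HasFilteredColimitsOfSize.{w, w} C] (S : C ⥤ C')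
    [PreservesFiniteCoproducts S] [PreservesFilteredColimitsOfSize.{w, w} S] (α : Type w) :
    PreservesColimitsOfShape (Discrete α) S := by
  classical
  constructor
  intro F
  refine preservesColimit_of_preserves_colimit_cocone (liftToFinsetColimitCocone F).isColimit ?_
  have hfin : ∀ I : Finset (Discrete α), PreservesColimit (Discrete.functor fun x : I => F.obj x) S :=
    fun I => inferInstance
  let hI := fun I : Finset (Discrete α) =>
    isColimitOfPreserves S (colimit.isColimit (Discrete.functor fun x : I => F.obj x))
  let hL := isColimitOfPreserves S (colimit.isColimit (liftToFinsetObj F))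
  let leg : ∀ (s : Cocone (F ⋙ S)) (I : Finset (Discrete α)),
      S.obj ((liftToFinsetObj F).obj I) ⟶ s.pt := fun s I =>
    (hI I).desc ⟨s.pt, Discrete.natTrans fun x => s.ι.app x.as.1⟩
  have hleg : ∀ (s : Cocone (F ⋙ S)) (I : Finset (Discrete α)) (x : I),
      S.map (Sigma.ι (fun x : I => F.obj x) x) ≫ leg s I = s.ι.app x.1 := fun s I x =>
    (hI I).fac _ ⟨x⟩
  let co : ∀ s : Cocone (F ⋙ S), Cocone (liftToFinsetObj F ⋙ S) := fun s =>
    { pt := s.pt
      ι :=
        { app := fun I => leg s I
          naturality := fun I J h => by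
            refine (hI I).hom_ext fun x => ?_
            show S.map (Sigma.ι _ x.as) ≫ S.map ((liftToFinsetObj F).map h) ≫ leg s J =
              S.map (Sigma.ι _ x.as) ≫ leg s I ≫ 𝟙 _
            rw [← S.map_comp_assoc, show Sigma.ι _ x.as ≫ (liftToFinsetObj F).map h = _ from
              colimit.ι_desc _ _]
            refine (hleg s J ⟨x.as.1, h.down.down x.as.2⟩).trans ?_
            rw [Category.comp_id]
            exact (hleg s I x.as).symm } }
  refine IsColimit.ofExistsUnique fun s => ⟨hL.desc (co s), fun j => ?_, fun m hm => ?_⟩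
  · show S.map (Sigma.ι (fun x : ({j} : Finset (Discrete α)) => F.obj x) ⟨j, by simp⟩ ≫
      colimit.ι (liftToFinsetObj F) {j}) ≫ hL.desc (co s) = s.ι.app j
    rw [S.map_comp, Category.assoc]
    refine (congrArg (S.map _ ≫ ·) (hL.fac (co s) {j})).trans ?_
    exact hleg s {j} ⟨j, by simp⟩
  · refine hL.hom_ext fun I => ?_
    refine (hI I).hom_ext fun x => ?_
    rw [hL.fac]
    refine Eq.trans ?_ (hleg s I x.as).symm
    show S.map (Sigma.ι _ x.as) ≫ S.map (colimit.ι (liftToFinsetObj F) I) ≫ m = _
    rw [← hm x.as.1, ← S.map_comp_assoc]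
    show _ = S.map (Sigma.ι (fun y : ({x.as.1} : Finset (Discrete α)) => F.obj y) ⟨x.as.1, by simp⟩ ≫
      colimit.ι (liftToFinsetObj F) {x.as.1}) ≫ m
    congr 2
    rw [← colimit.w (liftToFinsetObj F) (homOfLE (Finset.singleton_subset_iff.2 x.as.2)),
      ← Category.assoc]
    congr 1
    symm
    simp [liftToFinsetObj]

end Groth.Agent.EtShriekLib
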