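import Groth.Agent.EtShriekLib.Sheaf

/-!
# Composition of direct images with proper support
-/

universe u

open CategoryTheory CategoryTheory.Limits AlgebraicGeometry Opposite

namespace Groth.Agent.EtShriekLib

open EtShriek (sectSupp prV shriekSubgroup)

/-- Two monomorphisms with the same sections give an isomorphism. -/
theorem exists_iso_of_range {X : Scheme.{u}} {A B P : EtCoh.Ab X} (a : A ⟶ P) (b : B ⟶ P)
    [Mono a] [Mono b]
    (h : ∀ V, Set.range (a.hom.app V) = Set.range (b.hom.app V)) : ∃ φ : A ≅ B, φ.hom ≫ b = a := by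
  have inj : ∀ {A' : EtCoh.Ab X} (c : A' ⟶ P) [Mono c] V, Function.Injective (c.hom.app V) := by
    intro A' c _ V
    have : Mono ((sheafToPresheaf X.smallEtaleTopology AddCommGrpCat.{u + 1}).map c) := inferInstance
    exact (AddCommGrpCat.mono_iff_injective _).mp
      (inferInstanceAs (Mono (((sheafToPresheaf _ _).map c).app V)))
  have lift : ∀ {A' B' : EtCoh.Ab X} (a' : A' ⟶ P) (b' : B' ⟶ P) [Mono b'],
      (∀ V, Set.range (a'.hom.app V) ⊆ Set.range (b'.hom.app V)) → ∃ l : A' ⟶ B', l ≫ b' = a' := by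
    intro A' B' a' b' _ hs
    choose m hm using fun V (x : A'.obj.obj V) => hs V ⟨x, rfl⟩
    refine ⟨⟨{ app := fun V => AddCommGrpCat.ofHom (AddMonoidHom.mk' (m V) fun x y => inj b' V (by
                 rw [map_add, hm, hm, hm, map_add]))
               naturality := fun V W g => AddCommGrpCat.hom_ext (DFunLike.ext _ _ fun x => inj b' W ?_) }⟩, ?_⟩
    · show b'.hom.app W (m W (A'.obj.map g x)) = b'.hom.app W (B'.obj.map g (m V x))
      rw [hm, NatTrans.naturality_apply, NatTrans.naturality_apply, hm]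
    · refine Sheaf.hom_ext (NatTrans.ext (funext fun V => AddCommGrpCat.hom_ext (DFunLike.ext _ _ fun x => ?_)))
      exact hm V x
  obtain ⟨l, hl⟩ := lift a b fun V => (h V).le
  obtain ⟨l', hl'⟩ := lift b a fun V => (h V).ge
  exact ⟨⟨l, l', by rw [← cancel_mono a, Category.assoc, hl', hl, Category.id_comp],
    by rw [← cancel_mono b, Category.assoc, hl, hl', Category.id_comp]⟩, hl⟩

variable {X Y Z : Scheme.{u}} (h : X ⟶ Y) (g : Y ⟶ Z)

/-- The base changes of an étale scheme along a composite. -/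
noncomputable def bcCompIso : EtCoh.bc g ⋙ EtCoh.bc h ≅ EtCoh.bc (h ≫ g) :=
  (MorphismProperty.Over.pullbackComp (P := EtCoh.etaleMP) (Q := ⊤) h g).symm

theorem bcCompIso_prV (V : Z.Etale) :
    ((bcCompIso h g).hom.app V).left ≫ prV (h ≫ g) V =
      prV h ((EtCoh.bc g).obj V) ≫ prV g V := by
  show ((MorphismProperty.Over.pullbackComp (P := EtCoh.etaleMP) (Q := ⊤) h g).inv.app V).left ≫ _ = _
  simp [EtShriek.prV, MorphismProperty.Over.pullbackComp, EtCoh.bc]
  exact (congrArg ((pullbackLeftPullbackSndIso V.hom g h).hom ≫ ·) (Category.id_comp _)).trans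
    (pullbackLeftPullbackSndIso_hom_fst _ _ _)

theorem pushComp_inv_app (F : EtCoh.Ab X) (V : Z.Etale)
    (s : EtCoh.sect F ((EtCoh.bc (h ≫ g)).obj V)) :
    ((EtCoh.pushComp g h).inv.app F).hom.app (op V) s =
      F.obj.map ((bcCompIso h g).hom.app V).op s := rfl

variable [IsSeparated h] [LocallyOfFiniteType h] [IsSeparated g] [LocallyOfFiniteType g]

omit [IsSeparated h] in
theorem mem_comp_iff (F : EtCoh.Ab X) (V : Z.Etale)
    (s : EtCoh.sect F ((EtCoh.bc (h ≫ g)).obj V)) :
    s ∈ shriekSubgroup (h ≫ g) F V ↔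
      ∃ hu : F.obj.map ((bcCompIso h g).hom.app V).op s ∈ shriekSubgroup h F ((EtCoh.bc g).obj V),
        (⟨_, hu⟩ : shriekSubgroup h F ((EtCoh.bc g).obj V)) ∈
          shriekSubgroup g ((shriek₀ h).obj F) V := by
  let W := (EtCoh.bc g).obj V
  let e := (bcCompIso h g).app V
  let u := F.obj.map e.hom.op s
  have hu : sectSupp F ((EtCoh.bc h).obj W) u = e.hom.left.base ⁻¹' sectSupp F _ s := sectSupp_map F e.hom s
  have : IsIso e.hom.left :=
    ⟨e.inv.left, congrArg (fun q => q.left) e.hom_inv_id, congrArg (fun q => q.left) e.inv_hom_id⟩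
  have sq : IsPullback e.hom.left (prV h W ≫ prV g V) (prV (h ≫ g) V) (𝟙 V.left) :=
    IsPullback.of_horiz_isIso ⟨by rw [Category.comp_id]; exact bcCompIso_prV h g V⟩
  have sq' : IsPullback e.inv.left (prV (h ≫ g) V) (prV h W ≫ prV g V) (𝟙 V.left) :=
    have : IsIso e.inv.left :=
      ⟨e.hom.left, congrArg (fun q => q.left) e.inv_hom_id, congrArg (fun q => q.left) e.hom_inv_id⟩
    IsPullback.of_horiz_isIso ⟨by
      rw [Category.comp_id, ← bcCompIso_prV h g V, ← Category.assoc,
        show e.inv.left ≫ ((bcCompIso h g).hom.app V).left = 𝟙 _ from congrArg (fun q => q.left) e.inv_hom_id,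
        Category.id_comp]⟩
  constructor
  · intro hs
    rw [mem_shriekSubgroup_iff] at hs
    have hp : ClSub.IsProperOver (prV h W ≫ prV g V) (sectSupp F ((EtCoh.bc h).obj W) u) := by
      rw [hu]; exact ipo_preimage _ sq hs
    have hu' : u ∈ shriekSubgroup h F W := by
      rw [mem_shriekSubgroup_iff]
      refine ⟨hp.1, ?_⟩
      have := isProper_redι _ hp
      have : IsProper ((redι hp.1 ≫ prV h W) ≫ prV g V) := by rw [Category.assoc]; infer_instance
      exact isProper_of_comp _ (prV g V)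
    refine ⟨hu', ?_⟩
    refine (mem_shriekSubgroup_iff g ((shriek₀ h).obj F) V _).mpr ?_
    exact (sectSupp_shriek₀ h F W ⟨u, hu'⟩).symm ▸ ipo_image _ (prV h W) (prV g V) rfl hp
  · rintro ⟨hu', hv⟩
    rw [mem_shriekSubgroup_iff]
    replace hv : ClSub.IsProperOver (prV g V) (prV h W '' sectSupp F ((EtCoh.bc h).obj W) u) :=
      sectSupp_shriek₀ h F W ⟨u, hu'⟩ ▸ (mem_shriekSubgroup_iff g ((shriek₀ h).obj F) V _).mp hv
    have hp := ipo_comp (prV h W) (prV g V) ((mem_shriekSubgroup_iff h F W u).mp hu') hv subset_rfl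
    rw [hu] at hp
    refine ipo_mono _ (ipo_preimage _ sq' hp) (isClosed_sectSupp F _ _) fun x hx => ?_
    show (e.inv.left ≫ e.hom.left) x ∈ sectSupp F _ s
    rw [show e.inv.left ≫ e.hom.left = 𝟙 _ from congrArg (fun q => q.left) e.inv_hom_id]
    exact hx

/-- The inclusion of `g_! h_!` into `g_* h_*`. -/
noncomputable abbrev compIncl (F : EtCoh.Ab X) :
    (shriek₀ g).obj ((shriek₀ h).obj F) ⟶ (EtCoh.push g).obj ((EtCoh.push h).obj F) :=
  (shriek₀ι g).app _ ≫ (EtCoh.push g).map ((shriek₀ι h).app F)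

instance mono_push_map {F G : EtCoh.Ab Y} (α : F ⟶ G) [Mono α] : Mono ((EtCoh.push g).map α) :=
  have : PreservesLimitsOfSize.{0, 0} (EtCoh.push g) :=
    (EtCoh.pullPushAdj g).rightAdjoint_preservesLimits
  inferInstance

theorem exists_compIso (F : EtCoh.Ab X) :
    ∃ φ : (shriek₀ (h ≫ g)).obj F ≅ (shriek₀ g).obj ((shriek₀ h).obj F),
      φ.hom ≫ compIncl h g F = (shriek₀ι (h ≫ g)).app F ≫ (EtCoh.pushComp g h).inv.app F := by
  refine exists_iso_of_range _ _ fun V => Set.ext fun x => ⟨?_, ?_⟩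
  · rintro ⟨s, rfl⟩
    obtain ⟨hu, hv⟩ := (mem_comp_iff h g F V.unop s.1).mp s.2
    exact ⟨⟨⟨_, hu⟩, hv⟩, rfl⟩
  · rintro ⟨w, rfl⟩
    let e := (bcCompIso h g).app V.unop
    let u : EtCoh.sect F ((EtCoh.bc h).obj ((EtCoh.bc g).obj V.unop)) := (w.1).1
    let s : EtCoh.sect F ((EtCoh.bc (h ≫ g)).obj V.unop) := F.obj.map e.inv.op u
    have hs : F.obj.map e.hom.op s = u := by
      rw [show s = F.obj.map e.inv.op u from rfl, ← ConcreteCategory.comp_apply, ← Functor.map_comp,
        ← op_comp, e.hom_inv_id]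
      simp
    refine ⟨⟨s, (mem_comp_iff h g F V.unop s).mpr ⟨?_, ?_⟩⟩, ?_⟩
    · show F.obj.map e.hom.op s ∈ _; rw [hs]; exact (w.1).2
    · have key : ∀ (u' : EtCoh.sect F ((EtCoh.bc h).obj ((EtCoh.bc g).obj V.unop))) (hu'), u' = u →
          (⟨u', hu'⟩ : shriekSubgroup h F ((EtCoh.bc g).obj V.unop)) ∈
            shriekSubgroup g ((shriek₀ h).obj F) V.unop := by
        rintro _ hu' rfl; exact w.2
      exact key _ _ hs
    · exact hs

/-- `(h ≫ g)_! ≅ g_! h_!`. -/
noncomputable def compIso : shriek₀ (h ≫ g) ≅ shriek₀ h ⋙ shriek₀ g :=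
  NatIso.ofComponents (fun F => (exists_compIso h g F).choose) fun {F G} α => by
    have : Mono (compIncl h g G) := inferInstance
    rw [← cancel_mono (compIncl h g G), Category.assoc, Category.assoc,
      (exists_compIso h g G).choose_spec]
    have h1 : (shriek₀ g).map ((shriek₀ h).map α) ≫ compIncl h g G =
        compIncl h g F ≫ (EtCoh.push g).map ((EtCoh.push h).map α) := by
      simp only [compIncl, Category.assoc]
      rw [← Functor.map_comp, ← (shriek₀ι h).naturality α, Functor.map_comp, ← Category.assoc,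
        (shriek₀ι g).naturality, Category.assoc]
    rw [Functor.comp_map, h1, ← Category.assoc, (shriek₀ι (h ≫ g)).naturality, Category.assoc,
      (EtCoh.pushComp g h).inv.naturality α, ← Category.assoc]
    exact (congrArg (· ≫ (EtCoh.push g).map ((EtCoh.push h).map α))
      (exists_compIso h g F).choose_spec.symm).trans (Category.assoc _ _ _)

theorem compIso_comp (F : EtCoh.Ab X) :
    (compIso h g).hom.app F ≫ compIncl h g F =
      (shriek₀ι (h ≫ g)).app F ≫ (EtCoh.pushComp g h).inv.app F :=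
  (exists_compIso h g F).choose_spec

end Groth.Agent.EtShriekLib
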