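import Groth.Agent.EtShriekLib.StalkIso
import Groth.Agent.EtShriekLib.Comp
import Groth.Agent.EtConsAb.ProperFibre

/-!
# The base change map for direct images with proper support
-/

set_option autoImplicit false
set_option linter.style.haveILetI false
set_option backward.isDefEq.respectTransparency false
set_option backward.isDefEq.respectTransparency.types false

universe u

open CategoryTheory CategoryTheory.Limits AlgebraicGeometry Opposite

noncomputable section

namespace Groth.Agent.EtShriekLib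

open EtShriek (sectSupp prV shriekSubgroup)
open EtaleSite (germ bcPt cmpAt stalkPullIso bcSwap)

/-- The inverse image of a section is supported over its support. -/
theorem sectSupp_unit_subset {X' X : Scheme.{u}} (g' : X' ⟶ X) (F : EtCoh.Ab X) (W : X.Etale)
    (s : EtCoh.sect F W) :
    sectSupp ((EtCoh.pull g').obj F) ((EtCoh.bc g').obj W)
        (((EtCoh.pullPushAdj g').unit.app F).hom.app (op W) s) ⊆
      (prV g' W).base ⁻¹' sectSupp F W s := by
  intro x hx
  by_contra hn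
  obtain ⟨W', k, ⟨w, hw⟩, h0⟩ := (notMem_sectSupp_iff F s _).1 hn
  obtain ⟨p, hp, -⟩ := Scheme.exists_preimage_of_isPullback (prV_isPullback g' k) x w hw.symm
  refine hx _ ((EtCoh.bc g').map k) ⟨p, hp⟩ ?_
  refine Eq.trans (NatTrans.naturality_apply ((EtCoh.pullPushAdj g').unit.app F).hom k.op s).symm ?_
  exact (congrArg (((EtCoh.pullPushAdj g').unit.app F).hom.app (op W')) h0).trans (map_zero _)

section Geometric

variable {X : Scheme.{u}}

/-- Morphisms are determined on stalks at algebraically closed geometric points. -/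
theorem hom_ext_algClosed {F G : EtCoh.Ab X} {a b : F ⟶ G}
    (h : ∀ (L : Type u) [Field L] [IsAlgClosed L] (η : Spec (CommRingCat.of L) ⟶ X)
      (p : (EtCoh.stalk η).obj F), (EtCoh.stalk η).map a p = (EtCoh.stalk η).map b p) : a = b :=
  EtaleSite.hom_ext_of_stalk fun Ω _ _ η₀ => by
    let σ : Spec (CommRingCat.of (AlgebraicClosure Ω)) ⟶ Spec (CommRingCat.of Ω) :=
      Spec.map (CommRingCat.ofHom (algebraMap Ω (AlgebraicClosure Ω)))
    let e := EtaleSite.stalkExtIso σ η₀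
    have hab : (EtCoh.stalk (σ ≫ η₀)).map a = (EtCoh.stalk (σ ≫ η₀)).map b :=
      ConcreteCategory.hom_ext _ _ fun p => h _ (σ ≫ η₀) p
    rw [← cancel_mono (e.hom.app G), e.hom.naturality, e.hom.naturality, hab]

/-- Isomorphisms are detected on stalks at algebraically closed geometric points. -/
theorem isIso_of_stalk_algClosed {F G : EtCoh.Ab X} (a : F ⟶ G)
    (h : ∀ (L : Type u) [Field L] [IsAlgClosed L] (η : Spec (CommRingCat.of L) ⟶ X),
      Function.Bijective ((EtCoh.stalk η).map a)) : IsIso a := by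
  refine EtaleSite.isIso_of_stalk _ fun Ω _ _ η₀ => ?_
  let σ : Spec (CommRingCat.of (AlgebraicClosure Ω)) ⟶ Spec (CommRingCat.of Ω) :=
    Spec.map (CommRingCat.ofHom (algebraMap Ω (AlgebraicClosure Ω)))
  exact (NatIso.isIso_map_iff (EtaleSite.stalkExtIso σ η₀) _).2
    ((ConcreteCategory.isIso_iff_bijective _).2 (h _ (σ ≫ η₀)))

end Geometric

section Detect

variable {X Y : Scheme.{u}} (f : X ⟶ Y) [LocallyOfFiniteType f] {L : Type u} [Field L] [IsAlgClosed L]
  (η : Spec (CommRingCat.of L) ⟶ Y) (F : EtCoh.Ab X)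

/-- A germ of `f_!` is determined by its values at the points above. -/
theorem eq_zero_of_cmpS' (p : (EtCoh.stalk η).obj ((shriek₀ f).obj F))
    (h : ∀ ξ (hξ : ξ ≫ f = η), cmpS f ξ hξ F p = 0) : p = 0 := by
  obtain ⟨V, φ, s, rfl⟩ := EtaleSite.exists_germ_eq η ((shriek₀ f).obj F) p
  rw [germ_eq_zero_iff, sectSupp_shriek₀]
  rintro ⟨x, hx, hxv⟩
  let φl : Spec (CommRingCat.of L) ⟶ V.left := φ.left
  let P := pullback (prV f V) φl
  let q : P ⟶ Spec (CommRingCat.of L) := pullback.snd (prV f V) φl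
  haveI : LocallyOfFiniteType q := MorphismProperty.pullback_snd _ _ inferInstance
  haveI : JacobsonSpace ↥P := LocallyOfFiniteType.jacobsonSpace q
  let S : Set P := (pullback.fst (prV f V) φl).base ⁻¹' sectSupp F ((EtCoh.bc f).obj V) s.1
  obtain ⟨z, hz, -⟩ := Scheme.Pullback.exists_preimage_pullback (f := prV f V) (g := φl) x default hxv
  have hne : S.Nonempty := ⟨z, by rw [Set.mem_preimage, hz]; exact hx⟩
  obtain ⟨y, hy, hyc⟩ := nonempty_inter_closedPoints hne
    ((isClosed_sectSupp F _ s.1).preimage (pullback.fst (prV f V) φl).continuous).isLocallyClosed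
  let ζ : Spec (CommRingCat.of L) ⟶ P := pointOfClosedPoint q y hyc
  have hζ : ζ ≫ q = 𝟙 _ := pointOfClosedPoint_comp _ _ _
  let ℓ : Spec (CommRingCat.of L) ⟶ pullback V.hom f := ζ ≫ pullback.fst (prV f V) φl
  have hℓ : ℓ ≫ prV f V = φl := by
    refine (Category.assoc _ _ _).trans ((congrArg (ζ ≫ ·) pullback.condition).trans ?_)
    exact (Category.assoc _ _ _).symm.trans ((congrArg (· ≫ φl) hζ).trans (Category.id_comp _))
  have hξ : (ℓ ≫ pullback.snd V.hom f) ≫ f = η := by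
    rw [Category.assoc, ← pullback.condition, ← Category.assoc]
    exact (congrArg (· ≫ V.hom) hℓ).trans (Over.w φ)
  have h0 := h _ hξ
  rw [cmpS_germ, germ_eq_zero_iff] at h0
  refine h0 ?_
  have e : pullback.lift φl (ℓ ≫ pullback.snd V.hom f) ((Over.w φ).trans hξ.symm) = ℓ :=
    pullback.hom_ext ((pullback.lift_fst _ _ _).trans hℓ.symm) (pullback.lift_snd _ _ _)
  show pullback.lift φl (ℓ ≫ pullback.snd V.hom f) ((Over.w φ).trans hξ.symm) default ∈ _
  rw [e]
  show (pullback.fst (prV f V) φl) (ζ default) ∈ _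
  rw [pointOfClosedPoint_apply]
  exact hy

theorem eq_of_cmpS' (p q : (EtCoh.stalk η).obj ((shriek₀ f).obj F))
    (h : ∀ ξ (hξ : ξ ≫ f = η), cmpS f ξ hξ F p = cmpS f ξ hξ F q) : p = q :=
  sub_eq_zero.mp (eq_zero_of_cmpS' f η F _ fun ξ hξ => by rw [map_sub, sub_eq_zero]; exact h ξ hξ)

end Detect

variable {X Y X' Y' : Scheme.{u}} {f : X ⟶ Y} {g : Y' ⟶ Y} {f' : X' ⟶ Y'} {g' : X' ⟶ X}
  (h : IsPullback g' f' f g) [LocallyOfFiniteType f] [LocallyOfFiniteType f'] (F : EtCoh.Ab X)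

/-- `f_* ⟶ g_* f'_* g'^*`. -/
abbrev bcAdjoint : (EtCoh.push f).obj F ⟶ (EtCoh.push g).obj ((EtCoh.push f').obj ((EtCoh.pull g').obj F)) :=
  (EtCoh.push f).map ((EtCoh.pullPushAdj g').unit.app F) ≫ (EtCoh.pushComp f g').hom.app _ ≫
    (EtCoh.pushCongr h.w).hom.app _ ≫ (EtCoh.pushComp g f').inv.app _

omit [LocallyOfFiniteType f] [LocallyOfFiniteType f'] in
theorem bcAdjoint_app (V : Y.Etale) (s : EtCoh.sect F ((EtCoh.bc f).obj V)) :
    (bcAdjoint h F).hom.app (op V) s = ((EtCoh.pull g').obj F).obj.map (bcSwap f g f' g' h.w V).op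
      (((EtCoh.pullPushAdj g').unit.app F).hom.app (op ((EtCoh.bc f).obj V)) s) := by
  let t := ((EtCoh.pullPushAdj g').unit.app F).hom.app (op ((EtCoh.bc f).obj V)) s
  show _ = ((EtCoh.pull g').obj F).obj.map (bcSwap f g f' g' h.w V).op t
  refine Eq.trans ?_ (congrArg (fun k => k t) ((((EtCoh.pull g').obj F).obj.map_comp _ _).trans
    (congrArg (· ≫ _) (((EtCoh.pull g').obj F).obj.map_comp _ _)))).symm
  rfl

omit [LocallyOfFiniteType f] [LocallyOfFiniteType f'] in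
theorem bcAdjoint_isPullback (V : Y.Etale) :
    IsPullback ((bcSwap f g f' g' h.w V).left ≫ prV g' ((EtCoh.bc f).obj V)) (prV f' ((EtCoh.bc g).obj V))
      (prV f V) (prV g V) := by
  let a := (bcSwap f g f' g' h.w V).left ≫ prV g' ((EtCoh.bc f).obj V)
  have e1 : a ≫ prV f V = prV f' ((EtCoh.bc g).obj V) ≫ prV g V :=
    (Category.assoc _ _ _).trans (EtaleSite.bcSwap_fst_fst f g f' g' h.w V)
  have ew : (bcSwap f g f' g' h.w V).left ≫ pullback.snd (pullback.snd V.hom f) g' =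
      pullback.snd (pullback.snd V.hom g) f' := MorphismProperty.Over.w (bcSwap f g f' g' h.w V)
  have e2 : a ≫ pullback.snd V.hom f = pullback.snd (pullback.snd V.hom g) f' ≫ g' := by
    refine (Category.assoc _ _ _).trans ((congrArg (_ ≫ ·) pullback.condition).trans ?_)
    exact (Category.assoc _ _ _).symm.trans (congrArg (· ≫ g') ew)
  refine IsPullback.of_right ?_ e1 (IsPullback.of_hasPullback V.hom f).flip
  show IsPullback (a ≫ pullback.snd V.hom f) _ f (pullback.fst V.hom g ≫ V.hom)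
  rw [e2, pullback.condition]
  exact (IsPullback.of_hasPullback (pullback.snd V.hom g) f').flip.paste_horiz h

theorem bcAdjoint_mem (V : Y.Etale) (s : shriekSubgroup f F V) :
    (bcAdjoint h F).hom.app (op V) s.1 ∈
      shriekSubgroup f' ((EtCoh.pull g').obj F) ((EtCoh.bc g).obj V) := by
  rw [mem_shriekSubgroup_iff, bcAdjoint_app, sectSupp_map]
  refine ipo_mono _ (ipo_preimage _ (bcAdjoint_isPullback h V) ((mem_shriekSubgroup_iff f F V _).mp s.2))
    ((isClosed_sectSupp _ _ _).preimage (bcSwap f g f' g' h.w V).left.continuous) fun x hx => ?_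
  exact sectSupp_unit_subset g' F ((EtCoh.bc f).obj V) s.1 hx

/-- `f_! ⟶ g_* f'_! g'^*`. -/
def shriekAdjoint : (shriek₀ f).obj F ⟶ (EtCoh.push g).obj ((shriek₀ f').obj ((EtCoh.pull g').obj F)) :=
  ⟨{ app := fun V => AddCommGrpCat.ofHom
       ((((bcAdjoint h F).hom.app V).hom.comp (shriekSubgroup f F V.unop).subtype).codRestrict
         (shriekSubgroup f' ((EtCoh.pull g').obj F) ((EtCoh.bc g).obj V.unop))
         (fun s => bcAdjoint_mem h F V.unop s))
     naturality := fun V W k => AddCommGrpCat.hom_ext (DFunLike.ext _ _ fun s => Subtype.ext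
       (NatTrans.naturality_apply (bcAdjoint h F).hom k s.1)) }⟩

theorem shriekAdjoint_ι :
    shriekAdjoint h F ≫ (EtCoh.push g).map ((shriek₀ι f').app ((EtCoh.pull g').obj F)) =
      (shriek₀ι f).app F ≫ bcAdjoint h F :=
  Sheaf.hom_ext (NatTrans.ext (funext fun V => AddCommGrpCat.hom_ext (DFunLike.ext _ _ fun s => rfl)))

/-- The base change map for `f_!`. -/
def bcMap : (EtCoh.pull g).obj ((shriek₀ f).obj F) ⟶ (shriek₀ f').obj ((EtCoh.pull g').obj F) :=
  ((EtCoh.pullPushAdj g).homEquiv _ _).symm (shriekAdjoint h F)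

theorem bcMap_ι : bcMap h F ≫ (shriek₀ι f').app ((EtCoh.pull g').obj F) =
    (EtCoh.pull g).map ((shriek₀ι f).app F) ≫ EtCoh.baseChange0 f g f' g' h.w F := by
  rw [bcMap, ← Adjunction.homEquiv_naturality_right_symm, shriekAdjoint_ι,
    Adjunction.homEquiv_naturality_left_symm]
  rfl

theorem cmpS_bcMap {Ω : Type u} [Field Ω] [IsSepClosed Ω] {η' : Spec (CommRingCat.of Ω) ⟶ Y'}
    (ρ : Spec (CommRingCat.of Ω) ⟶ X') (h' : ρ ≫ f' = η') (h'' : (ρ ≫ g') ≫ f = η' ≫ g)
    (p : (EtCoh.stalk (η' ≫ g)).obj ((shriek₀ f).obj F)) :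
    cmpS f' ρ h' ((EtCoh.pull g').obj F)
      ((EtCoh.stalk η').map (bcMap h F) ((stalkPullIso g η').inv.app ((shriek₀ f).obj F) p)) =
      (stalkPullIso g' ρ).inv.app F (cmpS f (ρ ≫ g') h'' F p) := by
  refine Eq.trans ?_ (EtaleSite.cmpAt_baseChange0 f g f' g' h.w ρ F h' h''
    ((EtCoh.stalk (η' ≫ g)).map ((shriek₀ι f).app F) p))
  show cmpAt f' ρ h' ((EtCoh.pull g').obj F) ((EtCoh.stalk η').map ((shriek₀ι f').app _)
    ((EtCoh.stalk η').map (bcMap h F) ((stalkPullIso g η').inv.app ((shriek₀ f).obj F) p))) = _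
  refine congrArg (cmpAt f' ρ h' ((EtCoh.pull g').obj F)) ?_
  have e := congrArg (fun k => (EtCoh.stalk η').map k ((stalkPullIso g η').inv.app ((shriek₀ f).obj F) p))
    (bcMap_ι h F)
  simp only [Functor.map_comp, ConcreteCategory.comp_apply] at e
  refine e.trans (congrArg ((EtCoh.stalk η').map (EtCoh.baseChange0 f g f' g' h.w F)) ?_)
  exact (ConcreteCategory.congr_hom ((stalkPullIso g η').inv.naturality ((shriek₀ι f).app F)) p).symm

/-- The inverse of a stalk of an inverse image. -/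
theorem stalkPullIso_inv_hom {A B : Scheme.{u}} (k : A ⟶ B) {Ω : Type u} [Field Ω] [IsSepClosed Ω]
    (ξ : Spec (CommRingCat.of Ω) ⟶ A) (G : EtCoh.Ab B) (q : (EtCoh.stalk ξ).obj ((EtCoh.pull k).obj G)) :
    (stalkPullIso k ξ).inv.app G ((stalkPullIso k ξ).hom.app G q) = q :=
  ConcreteCategory.congr_hom ((stalkPullIso k ξ).hom_inv_id_app G) q

theorem injective_bcMap {L : Type u} [Field L] [IsAlgClosed L] (η' : Spec (CommRingCat.of L) ⟶ Y') :
    Function.Injective ((EtCoh.stalk η').map (bcMap h F)) := by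
  refine (injective_iff_map_eq_zero _).2 fun q hq => ?_
  let p := (stalkPullIso g η').hom.app _ q
  have hp : p = 0 := eq_zero_of_cmpS' f (η' ≫ g) F _ fun ρ₀ hρ₀ => by
    obtain ⟨ρ, hρ, hρ'⟩ : ∃ ρ : Spec (CommRingCat.of L) ⟶ X', ρ ≫ g' = ρ₀ ∧ ρ ≫ f' = η' :=
      ⟨h.lift ρ₀ η' hρ₀, h.lift_fst _ _ _, h.lift_snd _ _ _⟩
    subst hρ
    refine (ConcreteCategory.bijective_of_isIso ((stalkPullIso g' ρ).inv.app F)).1 ?_
    rw [map_zero, ← cmpS_bcMap h F ρ hρ' hρ₀, stalkPullIso_inv_hom, hq, map_zero]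
  rw [← stalkPullIso_inv_hom g η' _ q]
  exact (congrArg ((stalkPullIso g η').inv.app _) hp).trans (map_zero _)

theorem isIso_bcMap_of_surjective (hs : ∀ (L : Type u) [Field L] [IsAlgClosed L]
    (η' : Spec (CommRingCat.of L) ⟶ Y'), Function.Surjective ((EtCoh.stalk η').map (bcMap h F))) :
    IsIso (bcMap h F) :=
  isIso_of_stalk_algClosed _ fun L _ _ η' => ⟨injective_bcMap h F η', hs L η'⟩

/-- Base change holds for `f_!`. -/
def BC {X Y : Scheme.{u}} (f : X ⟶ Y) [LocallyOfFiniteType f] : Prop :=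
  ∀ ⦃X' Y' : Scheme.{u}⦄ (g : Y' ⟶ Y) (f' : X' ⟶ Y') (g' : X' ⟶ X) [LocallyOfFiniteType f']
    (h : IsPullback g' f' f g) (F : EtCoh.Ab X), IsIso (bcMap h F)

theorem isIso_shriek₀ι {X Y : Scheme.{u}} (f : X ⟶ Y) [IsProper f] (G : EtCoh.Ab X) :
    IsIso ((shriek₀ι f).app G) := by
  have hb : ∀ V, IsIso ((EtShriek.lowerShriekPreι f G).app V) := fun V =>
    (ConcreteCategory.isIso_iff_bijective _).mpr ⟨Subtype.val_injective, fun s => ⟨⟨s, by
      rw [mem_shriekSubgroup_iff]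
      have : IsProper (prV f V.unop) := MorphismProperty.pullback_fst (P := @IsProper) _ _ ‹_›
      exact ipo_of_isProper _ (isClosed_sectSupp _ _ _)⟩, rfl⟩⟩
  have : IsIso ((sheafToPresheaf Y.smallEtaleTopology AddCommGrpCat.{u + 1}).map ((shriek₀ι f).app G)) :=
    @NatIso.isIso_of_isIso_app _ _ _ _ _ _ (EtShriek.lowerShriekPreι f G) hb
  exact isIso_of_fully_faithful (f := (shriek₀ι f).app G) (sheafToPresheaf Y.smallEtaleTopology AddCommGrpCat.{u + 1})

theorem bc_of_isProper {X Y : Scheme.{u}} (f : X ⟶ Y) [IsProper f] : BC f := fun X' Y' g f' g' _ h F => by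
  haveI : IsProper f' := MorphismProperty.of_isPullback h inferInstance
  haveI := isIso_shriek₀ι f F
  haveI := isIso_shriek₀ι f' ((EtCoh.pull g').obj F)
  haveI := EtConsAb.ProperFibre.isIso_baseChange0_proper f f' g' g h F
  haveI : IsIso (bcMap h F ≫ (shriek₀ι f').app ((EtCoh.pull g').obj F)) := by
    rw [bcMap_ι]; infer_instance
  exact IsIso.of_isIso_comp_right _ ((shriek₀ι f').app ((EtCoh.pull g').obj F))

theorem bc_of_locallyQuasiFinite {X Y : Scheme.{u}} (f : X ⟶ Y) [LocallyOfFiniteType f] [IsSeparated f]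
    [LocallyQuasiFinite f] : BC f := fun X' Y' g f' g' _ h F => by
  haveI : IsSeparated f' := MorphismProperty.of_isPullback h inferInstance
  haveI : LocallyQuasiFinite f' := MorphismProperty.of_isPullback h inferInstance
  refine isIso_bcMap_of_surjective h F fun L _ _ η' r => ?_
  show r ∈ ((EtCoh.stalk η').map (bcMap h F)).hom.range
  rw [sum_single f' η' _ r]
  refine sum_mem fun ρ _ => ?_
  let ξ : PointsOver f (η' ≫ g) := ⟨ρ.1 ≫ g', by rw [Category.assoc, h.w, ← Category.assoc, ρ.2]⟩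
  let q := cmpS f' ρ.1 ρ.2 ((EtCoh.pull g').obj F) r
  refine ⟨(stalkPullIso g η').inv.app _ (single f (η' ≫ g) F ξ ((stalkPullIso g' ρ.1).hom.app F q)), ?_⟩
  refine eq_of_cmpS f' η' _ _ _ fun ρ' => ?_
  have h'' : (ρ'.1 ≫ g') ≫ f = η' ≫ g := by rw [Category.assoc, h.w, ← Category.assoc, ρ'.2]
  refine (cmpS_bcMap h F ρ'.1 ρ'.2 h'' _).trans ?_
  by_cases e : ρ' = ρ
  · subst e
    rw [cmpS_single_self f' η' _ ρ' q]
    refine (congrArg ((stalkPullIso g' ρ'.1).inv.app F) (cmpS_single_self f (η' ≫ g) F ξ _)).trans ?_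
    exact stalkPullIso_inv_hom g' ρ'.1 F q
  · rw [cmpS_single_ne f' η' _ ρ ρ' e q]
    let ξ' : PointsOver f (η' ≫ g) := ⟨ρ'.1 ≫ g', h''⟩
    refine (congrArg ((stalkPullIso g' ρ'.1).inv.app F)
      (cmpS_single_ne f (η' ≫ g) F ξ ξ' (fun he => e (Subtype.ext (h.hom_ext (congrArg Subtype.val he)
        (ρ'.2.trans ρ.2.symm)))) _)).trans (map_zero _)

section Comp

variable {Z Z' : Scheme.{u}} {a : X ⟶ Z} {b : Z ⟶ Y} {a' : X' ⟶ Z'} {b' : Z' ⟶ Y'} {gb : Z' ⟶ Z}
  [IsSeparated a] [LocallyOfFiniteType a] [IsSeparated b] [LocallyOfFiniteType b]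
  [IsSeparated a'] [LocallyOfFiniteType a'] [IsSeparated b'] [LocallyOfFiniteType b']

theorem cmpS_compIso {A B C : Scheme.{u}} (a : A ⟶ B) (b : B ⟶ C) [IsSeparated a] [LocallyOfFiniteType a]
    [IsSeparated b] [LocallyOfFiniteType b] {Ω : Type u} [Field Ω] [IsSepClosed Ω]
    {η : Spec (CommRingCat.of Ω) ⟶ C} (ρ : Spec (CommRingCat.of Ω) ⟶ A) (hρ : ρ ≫ a ≫ b = η)
    (F : EtCoh.Ab A) (p : (EtCoh.stalk η).obj ((shriek₀ (a ≫ b)).obj F)) :
    cmpS a ρ rfl F (cmpS b (ρ ≫ a) ((Category.assoc _ _ _).trans hρ) ((shriek₀ a).obj F)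
      ((EtCoh.stalk η).map ((compIso a b).hom.app F) p)) = cmpS (a ≫ b) ρ hρ F p := by
  obtain ⟨V, φ, s, rfl⟩ := EtaleSite.exists_germ_eq η ((shriek₀ (a ≫ b)).obj F) p
  let w : shriekSubgroup b ((shriek₀ a).obj F) V := ((compIso a b).hom.app F).hom.app (op V) s
  have hw : (w.1).1 = F.obj.map ((bcCompIso a b).hom.app V).op s.1 :=
    congrArg (fun k : (shriek₀ (a ≫ b)).obj F ⟶ _ => k.hom.app (op V) s) (compIso_comp a b F)
  rw [EtaleSite.germ_naturality]
  refine (congrArg (cmpS a ρ rfl F) (cmpS_germ b (ρ ≫ a) _ _ V φ w)).trans ?_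
  refine (cmpS_germ a ρ rfl F _ _ w.1).trans ?_
  refine Eq.trans ?_ (cmpS_germ (a ≫ b) ρ hρ F V φ s).symm
  refine (congrArg (germ ρ F _ _) hw).trans ?_
  refine (EtaleSite.germ_res _ _ _ _ _).trans ?_
  refine congrArg (fun z => germ ρ F ((EtCoh.bc (a ≫ b)).obj V) z s.1) (Over.OverMorphism.ext ?_)
  show (bcPt a ρ rfl ((EtCoh.bc b).obj V)
    (bcPt b (ρ ≫ a) ((Category.assoc _ _ _).trans hρ) V φ)).left ≫ ((bcCompIso a b).hom.app V).left = _
  refine pullback.hom_ext ((Category.assoc _ _ _).trans ?_) ((Category.assoc _ _ _).trans ?_)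
  · refine (congrArg (_ ≫ ·) (bcCompIso_prV a b V)).trans ?_
    refine ((Category.assoc _ _ _).symm.trans ?_).trans (pullback.lift_fst _ _ _).symm
    exact (congrArg (· ≫ prV b V) (pullback.lift_fst _ _ _)).trans (pullback.lift_fst _ _ _)
  · refine (congrArg (_ ≫ ·) (MorphismProperty.Over.w ((bcCompIso a b).hom.app V))).trans ?_
    exact (pullback.lift_snd _ _ _).trans (pullback.lift_snd _ _ _).symm

variable (ha : IsPullback g' a' a gb) (hb : IsPullback gb b' b g)

/-- Base change maps of composites. -/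
theorem bcMap_comp (F : EtCoh.Ab X) :
    bcMap (ha.paste_vert hb) F ≫ (compIso a' b').hom.app ((EtCoh.pull g').obj F) =
      (EtCoh.pull g).map ((compIso a b).hom.app F) ≫ bcMap hb ((shriek₀ a).obj F) ≫
        (shriek₀ b').map (bcMap ha F) := by
  refine hom_ext_algClosed fun L _ _ η' q => ?_
  obtain ⟨p, rfl⟩ := (ConcreteCategory.bijective_of_isIso
    ((stalkPullIso g η').inv.app ((shriek₀ (a ≫ b)).obj F))).2 q
  refine eq_of_cmpS' b' η' _ _ _ fun ρ₁ hρ₁ => eq_of_cmpS' a' ρ₁ _ _ _ fun ρ hρ => ?_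
  subst hρ
  have h2 : ((ρ ≫ g') ≫ a) ≫ b = η' ≫ g := by
    rw [← hρ₁]; simp only [Category.assoc, ha.w, hb.w, reassoc_of% ha.w]
  have h1 : (ρ ≫ g') ≫ a = (ρ ≫ a') ≫ gb := by rw [Category.assoc, ha.w, Category.assoc]
  simp only [Functor.map_comp, ConcreteCategory.comp_apply]
  have h3 : ρ ≫ a' ≫ b' = η' := (Category.assoc _ _ _).symm.trans hρ₁
  have h4 : (ρ ≫ g') ≫ a ≫ b = η' ≫ g := (Category.assoc _ _ _).symm.trans h2
  refine ((cmpS_compIso a' b' ρ h3 _ _).trans (cmpS_bcMap (ha.paste_vert hb) F ρ h3 h4 p)).trans ?_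
  have hnat := ConcreteCategory.congr_hom
    ((stalkPullIso g η').inv.naturality ((compIso a b).hom.app F)) p
  let r := (EtCoh.stalk (η' ≫ g)).map ((compIso a b).hom.app F) p
  let T := (EtCoh.stalk η').map (bcMap hb ((shriek₀ a).obj F)) ((stalkPullIso g η').inv.app _ r)
  refine Eq.trans ?_ (congrArg (fun z => cmpS a' ρ rfl ((EtCoh.pull g').obj F) (cmpS b' (ρ ≫ a') hρ₁ _
    ((EtCoh.stalk η').map ((shriek₀ b').map (bcMap ha F))
      ((EtCoh.stalk η').map (bcMap hb ((shriek₀ a).obj F)) z)))) hnat)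
  show _ = cmpS a' ρ rfl ((EtCoh.pull g').obj F) (cmpS b' (ρ ≫ a') hρ₁ _
    ((EtCoh.stalk η').map ((shriek₀ b').map (bcMap ha F)) T))
  refine Eq.trans ?_ (congrArg (cmpS a' ρ rfl ((EtCoh.pull g').obj F))
    (ConcreteCategory.congr_hom (cmpS_naturality b' (ρ ≫ a') hρ₁ (bcMap ha F)) T)).symm
  have h5 : ((ρ ≫ a') ≫ gb) ≫ b = η' ≫ g := h1 ▸ h2
  refine Eq.trans ?_ (congrArg (fun z => cmpS a' ρ rfl ((EtCoh.pull g').obj F)
    ((EtCoh.stalk (ρ ≫ a')).map (bcMap ha F) z)) (cmpS_bcMap hb ((shriek₀ a).obj F) (ρ ≫ a') hρ₁ h5 r)).symm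
  refine Eq.trans ?_ (cmpS_bcMap ha F ρ rfl h1 _).symm
  refine congrArg ((stalkPullIso g' ρ).inv.app F) ?_
  refine (cmpS_compIso a b (ρ ≫ g') h4 F p).symm.trans ?_
  have key : ∀ (z : Spec (CommRingCat.of L) ⟶ Z) (e₁ : (ρ ≫ g') ≫ a = z) (e₂ : z ≫ b = η' ≫ g)
      (r : (EtCoh.stalk (η' ≫ g)).obj ((shriek₀ b).obj ((shriek₀ a).obj F))),
      cmpS a (ρ ≫ g') rfl F (cmpS b ((ρ ≫ g') ≫ a) h2 _ r) =
        cmpS a (ρ ≫ g') e₁ F (cmpS b z e₂ _ r) := by
    rintro z rfl e₂ r; rfl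
  exact key _ h1 h5 _

theorem isIso_bcMap_comp (F : EtCoh.Ab X) [IsIso (bcMap ha F)] [IsIso (bcMap hb ((shriek₀ a).obj F))] :
    IsIso (bcMap (ha.paste_vert hb) F) := by
  haveI : IsIso (bcMap (ha.paste_vert hb) F ≫ (compIso a' b').hom.app ((EtCoh.pull g').obj F)) := by
    rw [bcMap_comp ha hb]; infer_instance
  exact IsIso.of_isIso_comp_right _ ((compIso a' b').hom.app ((EtCoh.pull g').obj F))

theorem isIso_bcMap_right (F : EtCoh.Ab X) [IsIso (bcMap ha F)] [IsIso (bcMap (ha.paste_vert hb) F)] :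
    IsIso (bcMap hb ((shriek₀ a).obj F)) := by
  haveI : IsIso ((EtCoh.pull g).map ((compIso a b).hom.app F) ≫ bcMap hb ((shriek₀ a).obj F) ≫
      (shriek₀ b').map (bcMap ha F)) := by
    rw [← bcMap_comp ha hb]; infer_instance
  haveI := IsIso.of_isIso_comp_left ((EtCoh.pull g).map ((compIso a b).hom.app F))
    (bcMap hb ((shriek₀ a).obj F) ≫ (shriek₀ b').map (bcMap ha F))
  exact IsIso.of_isIso_comp_right _ ((shriek₀ b').map (bcMap ha F))

end Comp

theorem bc_comp {X Z Y : Scheme.{u}} (a : X ⟶ Z) (b : Z ⟶ Y) [IsSeparated a] [LocallyOfFiniteType a]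
    [IsSeparated b] [LocallyOfFiniteType b] (ha : BC a) (hb : BC b) : BC (a ≫ b) :=
  fun X' Y' g f' g' _ h F => by
    obtain ⟨Z', gb, b', a', hb', ha', rfl⟩ : ∃ (Z' : Scheme.{u}) (gb : Z' ⟶ Z) (b' : Z' ⟶ Y') (a' : X' ⟶ Z'),
        IsPullback gb b' b g ∧ IsPullback g' a' a gb ∧ a' ≫ b' = f' :=
      ⟨_, pullback.fst b g, pullback.snd b g,
        pullback.lift (g' ≫ a) f' ((Category.assoc _ _ _).trans h.w), IsPullback.of_hasPullback b g,
        IsPullback.of_bot (by rw [pullback.lift_snd]; exact h) (pullback.lift_fst _ _ _).symm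
          (IsPullback.of_hasPullback b g), pullback.lift_snd _ _ _⟩
    haveI : IsSeparated b' := MorphismProperty.of_isPullback hb' inferInstance
    haveI : LocallyOfFiniteType b' := MorphismProperty.of_isPullback hb' inferInstance
    haveI : IsSeparated a' := MorphismProperty.of_isPullback ha' inferInstance
    haveI : LocallyOfFiniteType a' := MorphismProperty.of_isPullback ha' inferInstance
    haveI := ha gb a' g' ha' F
    haveI := hb g b' gb hb' ((shriek₀ a).obj F)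
    exact isIso_bcMap_comp ha' hb' F

end Groth.Agent.EtShriekLib
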