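import Groth.Agent.EtShriekLib.BaseChange
import Groth.Agent.EtShriekLib.ExtZeroIso
import Groth.Agent.EtaleSite.Recollement
import Groth.Agent.EtDepthLoc.Base
import Groth.Agent.S0384

/-!
# Base change for direct images with proper support
-/

set_option autoImplicit false
set_option linter.style.haveILetI false
set_option backward.isDefEq.respectTransparency false
set_option backward.isDefEq.respectTransparency.types false

universe u

open CategoryTheory CategoryTheory.Limits AlgebraicGeometry Opposite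

noncomputable section

namespace Groth.Agent.EtShriekLib

open EtShriek (sectSupp prV shriekSubgroup)
open EtaleSite (germ bcPt stalkPullIso)

theorem baseChange0_natural {X Y X' Y' : Scheme.{u}} (f : X ⟶ Y) (g : Y' ⟶ Y) (f' : X' ⟶ Y')
    (g' : X' ⟶ X) (w : g' ≫ f = f' ≫ g) {F F' : EtCoh.Ab X} (a : F ⟶ F') :
    (EtCoh.pull g).map ((EtCoh.push f).map a) ≫ EtCoh.baseChange0 f g f' g' w F' =
      EtCoh.baseChange0 f g f' g' w F ≫ (EtCoh.push f').map ((EtCoh.pull g').map a) := by
  let σ : EtCoh.push g' ⋙ EtCoh.push f ≅ EtCoh.push f' ⋙ EtCoh.push g :=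
    EtCoh.pushComp f g' ≪≫ EtCoh.pushCongr w ≪≫ (EtCoh.pushComp g f').symm
  have eq0 : ∀ G, EtCoh.baseChange0 f g f' g' w G =
      ((EtCoh.pullPushAdj g).homEquiv ((EtCoh.push f).obj G)
        ((EtCoh.push f').obj ((EtCoh.pull g').obj G))).symm
        ((EtCoh.push f).map ((EtCoh.pullPushAdj g').unit.app G) ≫ σ.hom.app _) := fun G => rfl
  rw [eq0, eq0]
  erw [← Adjunction.homEquiv_naturality_left_symm, ← Adjunction.homEquiv_naturality_right_symm]
  congr 1
  rw [Category.assoc]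
  erw [← σ.hom.naturality]
  rw [← Category.assoc, ← Category.assoc]
  congr 1
  rw [← Functor.map_comp]
  erw [← Functor.map_comp]
  congr 1
  exact (EtCoh.pullPushAdj g').unit.naturality a

theorem bc_of_eq {X Y : Scheme.{u}} {f₁ f₂ : X ⟶ Y} [LocallyOfFiniteType f₁] [LocallyOfFiniteType f₂]
    (e : f₁ = f₂) (h : BC f₁) : BC f₂ := by
  subst e
  exact h

theorem bc_of_qc_affine {X Y : Scheme.{u}} (f : X ⟶ Y) [IsAffine Y] [IsSeparated f] [QuasiCompact f]
    [LocallyOfFiniteType f] : BC f := by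
  obtain ⟨Xb, j, p, _, _, _, e⟩ := Nagata.hasCompactification f
  exact bc_of_eq e (bc_comp j p (bc_of_locallyQuasiFinite j) (bc_of_isProper p))

theorem bc_of_qc_into_affineOpen {X Y : Scheme.{u}} (f : X ⟶ Y) [IsSeparated f] [LocallyOfFiniteType f]
    (X₁ : X.Opens) (hX₁ : IsCompact (X₁ : Set X)) {V₀ : Y.Opens} (hV : IsAffineOpen V₀)
    (hle : ∀ x ∈ X₁, f x ∈ V₀) : BC (X₁.ι ≫ f) := by
  haveI : IsAffine V₀.toScheme := hV
  haveI : CompactSpace X₁.toScheme := isCompact_iff_compactSpace.1 hX₁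
  let f₁ : X₁.toScheme ⟶ V₀.toScheme := IsOpenImmersion.lift V₀.ι (X₁.ι ≫ f) (by
    rintro _ ⟨x, rfl⟩
    rw [Scheme.Opens.range_ι, Scheme.Hom.comp_apply]
    exact hle x.1 x.2)
  have e : f₁ ≫ V₀.ι = X₁.ι ≫ f := IsOpenImmersion.lift_fac _ _ _
  haveI : IsSeparated (f₁ ≫ V₀.ι) := by rw [e]; infer_instance
  haveI : IsSeparated f₁ := IsSeparated.of_comp f₁ V₀.ι
  haveI : LocallyOfFiniteType (f₁ ≫ V₀.ι) := by rw [e]; infer_instance
  haveI : LocallyOfFiniteType f₁ := locallyOfFiniteType_of_comp f₁ V₀.ι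
  haveI : QuasiCompact f₁ := inferInstance
  exact bc_of_eq e (bc_comp f₁ V₀.ι (bc_of_qc_affine f₁) (bc_of_locallyQuasiFinite V₀.ι))

/-- A section whose germs lie in a subsheaf comes from the subsheaf. -/
theorem exists_eq_app_of_supp {X : Scheme.{u}} {E G : EtCoh.Ab X} (ε : E ⟶ G) [Mono ε] (O : Set X)
    (hO : ∀ (Ω : Type u) [Field Ω] [IsSepClosed Ω] (ξ : Spec (CommRingCat.of Ω) ⟶ X), ξ default ∈ O →
      Function.Surjective ((EtCoh.stalk ξ).map ε))
    (W : X.Etale) (s : EtCoh.sect G W) (hs : ∀ w ∈ sectSupp G W s, W.hom w ∈ O) :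
    ∃ t : EtCoh.sect E W, ε.hom.app (op W) t = s := by
  have hS : (ShortComplex.mk ε (cokernel.π ε) (cokernel.condition ε)).ShortExact :=
    { exact := ShortComplex.exact_of_g_is_cokernel _ (cokernelIsCokernel ε) }
  refine EtDepthLoc.exists_eq_f hS W s (EtaleSite.sect_ext _ _ fun Ω _ _ ξ x => ?_)
  rw [map_zero, ← EtaleSite.germ_naturality]
  by_cases hx : x.left (default : Spec (CommRingCat.of Ω)) ∈ sectSupp G W s
  · have hξ : ξ default ∈ O := by
      have := hs _ hx
      rwa [show W.hom (x.left (default : Spec (CommRingCat.of Ω))) = ξ default from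
        congrArg (fun k : Spec (CommRingCat.of Ω) ⟶ X => k default) (Over.w x)] at this
    obtain ⟨q, hq⟩ := hO Ω ξ hξ (germ ξ G W x s)
    rw [← hq, ← ConcreteCategory.comp_apply, ← Functor.map_comp, cokernel.condition, Functor.map_zero]
    rfl
  · rw [(germ_eq_zero_iff G s ξ x).2 hx, map_zero]

/-- Inclusions of sheaves that are isomorphisms over an open set, from a direct image with proper
support. -/
theorem exists_ext_zero {X : Scheme.{u}} (X₁ : X.Opens) (F : EtCoh.Ab X) :
    ∃ (F₁ : EtCoh.Ab X₁.toScheme) (ε : (shriek₀ X₁.ι).obj F₁ ⟶ F), Mono ε ∧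
      ∀ (Ω : Type u) [Field Ω] [IsSepClosed Ω] (ξ : Spec (CommRingCat.of Ω) ⟶ X), ξ default ∈ (X₁ : Set X) →
        IsIso ((EtCoh.stalk ξ).map ε) := by
  let i := X₁.ι
  obtain ⟨e⟩ := nonempty_extZero_iso i
  let F₁ := (EtShriek.restrAlong i).obj F
  let κ := (EtShriek.extZeroAdj i).counit.app F
  have hm : Mono κ := EtaleSite.mono_of_stalk _ fun Ω _ _ ξ => by
    by_cases hξ : ξ default ∈ Set.range i
    · haveI := EtaleSite.isIso_stalk_counit_extZero i F ξ hξ
      exact (ConcreteCategory.bijective_of_isIso ((EtCoh.stalk ξ).map κ)).1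
    · have := AddCommGrpCat.subsingleton_of_isZero (EtSupp.isZero_stalk_extZero i F₁ ξ hξ)
      exact fun a b _ => @Subsingleton.elim _ this a b
  refine ⟨F₁, (e ≪≫ shriekIso i).inv.app F₁ ≫ κ, inferInstance, fun Ω _ _ ξ hξ => ?_⟩
  haveI := EtaleSite.isIso_stalk_counit_extZero i F ξ (by rw [Scheme.Opens.range_ι]; exact hξ)
  rw [Functor.map_comp]
  infer_instance

/-- Base change for `f_!`. -/
theorem bc_of_isSeparated {X Y : Scheme.{u}} (f : X ⟶ Y) [IsSeparated f] [LocallyOfFiniteType f] :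
    BC f := fun X' Y' g f' g' _ h F => by
  haveI : IsSeparated f' := MorphismProperty.of_isPullback h inferInstance
  refine isIso_bcMap_of_surjective h F fun L _ _ η' r => ?_
  let G := (EtCoh.pull g').obj F
  obtain ⟨V', φ', s', rfl⟩ := EtaleSite.exists_germ_eq η' ((shriek₀ f').obj G) r
  have hs' := (mem_shriekSubgroup_iff f' G V' _).mp (show shriekSubgroup f' G V' from s').2
  let W' := (EtCoh.bc f').obj V'
  let Z' : Set W'.left := sectSupp G W' (show shriekSubgroup f' G V' from s').1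
  let v' : V'.left := φ'.left (default : Spec (CommRingCat.of L))
  let a : W'.left ⟶ X := W'.hom ≫ g'
  let P := redι hs'.1 ≫ prV f' V'
  haveI : IsProper P := isProper_redι _ hs'
  let K : Set X := (fun z => a (redι hs'.1 z)) '' (P ⁻¹' {v'})
  have hK : IsCompact K :=
    (P.isCompact_preimage_singleton v').image (a.continuous.comp (redι hs'.1).continuous)
  let y : Y := g (V'.hom v')
  obtain ⟨_, ⟨V₀, hV₀, rfl⟩, hy, -⟩ :=
    Y.isBasis_affineOpens.exists_subset_of_mem_open (Set.mem_univ y) isOpen_univ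
  have hKV : K ⊆ f.base ⁻¹' V₀ := by
    rintro _ ⟨z, hz, rfl⟩
    show f (g' (W'.hom (redι hs'.1 z))) ∈ V₀
    have e : (redι hs'.1 ≫ W'.hom) ≫ g' ≫ f = P ≫ V'.hom ≫ g := by
      rw [h.w, Category.assoc, ← Category.assoc W'.hom f']
      exact (congrArg (fun k => redι hs'.1 ≫ k ≫ g) pullback.condition.symm).trans (by simp [P])
    have e' := congrArg (fun k : _ ⟶ Y => k.base z) e
    refine (congrArg (· ∈ V₀) ?_).mpr hy
    refine Eq.trans e' ?_
    exact congrArg (fun v => g (V'.hom v)) hz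
  obtain ⟨O₁, hO₁c, hO₁o, hKO₁, hO₁V⟩ :=
    PrespectralSpace.exists_isCompact_and_isOpen_between hK (V₀.isOpen.preimage f.continuous) hKV
  let X₁ : X.Opens := ⟨O₁, hO₁o⟩
  -- shrink the neighbourhood
  let B : Set _ := (redι hs'.1).base ⁻¹' (a.base ⁻¹' (X₁ : Set X))ᶜ
  have hB : IsClosed (P.base '' B) :=
    P.isClosedMap _ ((X₁.isOpen.preimage a.continuous).isClosed_compl.preimage (redι hs'.1).continuous)
  let O : V'.left.Opens := ⟨(P.base '' B)ᶜ, hB.isOpen_compl⟩
  have hvO : v' ∈ O := by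
    rintro ⟨z, hz, hzv⟩
    exact hz (hKO₁ ⟨z, hzv, rfl⟩)
  let V'' := EtaleSite.piece V' O
  let p := EtaleSite.pieceHom V' O
  let φl : Spec (CommRingCat.of L) ⟶ O.toScheme := IsOpenImmersion.lift O.ι φ'.left (by
    rintro _ ⟨o, rfl⟩
    rw [Scheme.Opens.range_ι, Subsingleton.elim o default]
    exact hvO)
  let φ'' : (Scheme.pointSmallEtale η').fiber.obj V'' :=
    (Over.homMk φl (by
      show φl ≫ O.ι ≫ V'.hom = η'
      rw [← Category.assoc, IsOpenImmersion.lift_fac]
      exact Over.w φ') : Over.mk η' ⟶ (Scheme.Etale.forget Y').obj V'')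
  let s'' : shriekSubgroup f' G V'' := ((shriek₀ f').obj G).obj.map p.op s'
  have hgerm : germ η' ((shriek₀ f').obj G) V'' φ'' s'' = germ η' ((shriek₀ f').obj G) V' φ' s' := by
    refine (EtaleSite.germ_res η' ((shriek₀ f').obj G) p φ'' s').trans ?_
    refine congrArg (fun z => germ η' ((shriek₀ f').obj G) V' z s') (Over.OverMorphism.ext ?_)
    exact IsOpenImmersion.lift_fac _ _ _
  let W'' := (EtCoh.bc f').obj V''
  have hsupp : ∀ w ∈ sectSupp G W'' s''.1, W''.hom w ∈ (g'.base ⁻¹' (X₁ : Set X)) := by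
    intro w hw
    have hw' : w ∈ ((EtCoh.bc f').map p).left.base ⁻¹' Z' := by
      rw [← sectSupp_map]; exact hw
    obtain ⟨z, hz⟩ := (range_redι hs'.1).ge hw'
    show g' (W''.hom w) ∈ X₁
    rw [← MorphismProperty.Over.w ((EtCoh.bc f').map p), Scheme.Hom.comp_apply]
    by_contra hn
    refine (prV f' V'' w).2 ⟨z, ?_, ?_⟩
    · show a (redι hs'.1 z) ∉ X₁
      rw [hz]
      exact hn
    · show (prV f' V') (redι hs'.1 z) = _
      rw [hz]
      exact congrArg (fun q => q.base w) (prV_isPullback f' p).w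
  -- extension by zero from the compact open
  obtain ⟨F₁, ε, hε, hεiso⟩ := exists_ext_zero X₁ F
  let E := (shriek₀ X₁.ι).obj F₁
  let εG := (EtCoh.pull g').map ε
  haveI : Mono εG := (EtCoh.pull g').map_mono ε
  obtain ⟨t, ht⟩ := exists_eq_app_of_supp εG (g'.base ⁻¹' (X₁ : Set X)) (fun Ω _ _ ξ hξ => by
    haveI := hεiso Ω (ξ ≫ g') (by rw [Scheme.Hom.comp_apply]; exact hξ)
    haveI : IsIso ((EtCoh.pull g' ⋙ EtCoh.stalk ξ).map ε) :=
      (NatIso.isIso_map_iff (stalkPullIso g' ξ) ε).2 inferInstance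
    exact (ConcreteCategory.bijective_of_isIso ((EtCoh.pull g' ⋙ EtCoh.stalk ξ).map ε)).2)
    W'' s''.1 hsupp
  have htm : t ∈ shriekSubgroup f' ((EtCoh.pull g').obj E) V'' := by
    rw [mem_shriekSubgroup_iff, ← sectSupp_app_of_mono εG W'' t, ht]
    exact (mem_shriekSubgroup_iff f' G V'' _).mp s''.2
  -- base change for the open piece
  let i' := pullback.snd X₁.ι g'
  have ha : IsPullback (pullback.fst X₁.ι g') i' X₁.ι g' := IsPullback.of_hasPullback _ _
  haveI : IsSeparated i' := MorphismProperty.of_isPullback ha inferInstance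
  haveI : LocallyOfFiniteType i' := MorphismProperty.of_isPullback ha inferInstance
  haveI := bc_of_locallyQuasiFinite X₁.ι g' i' (pullback.fst X₁.ι g') ha F₁
  haveI := bc_of_qc_into_affineOpen f X₁ hO₁c hV₀ (fun x hx => hO₁V hx) g (i' ≫ f')
    (pullback.fst X₁.ι g') (ha.paste_vert h) F₁
  haveI := isIso_bcMap_right ha h F₁
  obtain ⟨q, hq⟩ := (ConcreteCategory.bijective_of_isIso ((EtCoh.stalk η').map (bcMap h E))).2
    (germ η' ((shriek₀ f').obj ((EtCoh.pull g').obj E)) V'' φ'' (⟨t, htm⟩ : shriekSubgroup f' _ V''))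
  -- naturality of the base change map
  have hnat : (EtCoh.pull g).map ((shriek₀ f).map ε) ≫ bcMap h F =
      bcMap h E ≫ (shriek₀ f').map εG := by
    rw [← cancel_mono ((shriek₀ι f').app G)]
    rw [Category.assoc, Category.assoc, bcMap_ι, ← Category.assoc, ← Functor.map_comp,
      (shriek₀ι f).naturality, (shriek₀ι f').naturality, Functor.map_comp, Category.assoc,
      ← Category.assoc (bcMap h E), bcMap_ι, Category.assoc]
    refine congrArg (_ ≫ ·) ?_
    exact baseChange0_natural f g f' g' h.w ε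
  refine ⟨(EtCoh.stalk η').map ((EtCoh.pull g).map ((shriek₀ f).map ε)) q, ?_⟩
  rw [← ConcreteCategory.comp_apply, ← Functor.map_comp, hnat, Functor.map_comp,
    ConcreteCategory.comp_apply, hq, EtaleSite.germ_naturality, ← hgerm]
  exact congrArg (germ η' ((shriek₀ f').obj G) V'' φ'') (Subtype.ext ht)

end Groth.Agent.EtShriekLib
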