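import Groth.Agent.EtShriekLib.StalkIso
import Mathlib.CategoryTheory.Abelian.Exact

/-!
# Exactness of `f_!` for locally quasi-finite `f`
-/

universe u w

open CategoryTheory CategoryTheory.Limits AlgebraicGeometry Opposite

namespace Groth.Agent.EtShriekLib

variable {X Y : Scheme.{u}} (f : X ⟶ Y) [LocallyOfFiniteType f]

instance additive_shriek₀ : (shriek₀ f).Additive where
  map_add {F G α β} := by
    refine Sheaf.hom_ext (NatTrans.ext (funext fun V => AddCommGrpCat.hom_ext (DFunLike.ext _ _ fun s => ?_)))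
    exact Subtype.ext rfl

variable [IsSeparated f] [LocallyQuasiFinite f]

section Stalk

variable {Ω : Type u} [Field Ω] [IsAlgClosed Ω] (η : Spec (CommRingCat.of Ω) ⟶ Y)

theorem single_naturality {F G : EtCoh.Ab X} (a : F ⟶ G) (ξ : PointsOver f η) :
    (EtCoh.stalk ξ.1).map a ≫ single f η G ξ =
      single f η F ξ ≫ (EtCoh.stalk η).map ((shriek₀ f).map a) := by
  ext q
  refine eq_of_cmpS f η G _ _ fun ξ' => ?_
  simp only [ConcreteCategory.comp_apply]
  have h := ConcreteCategory.congr_hom (cmpS_naturality f ξ'.1 ξ'.2 a) (single f η F ξ q)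
  refine Eq.trans ?_ h.symm
  by_cases hh : ξ' = ξ
  · subst hh
    rw [cmpS_single_self, ConcreteCategory.comp_apply, cmpS_single_self]
  · rw [cmpS_single_ne f η G ξ ξ' hh, ConcreteCategory.comp_apply, cmpS_single_ne f η F ξ ξ' hh, map_zero]

/-- The inclusions of the summands, naturally. -/
noncomputable def singleNat (ξ : PointsOver f η) :
    EtCoh.stalk ξ.1 ⟶ shriek₀ f ⋙ EtCoh.stalk η where
  app F := single f η F ξ
  naturality _ _ a := single_naturality f η a ξ

/-- The stalk functor of `f_!` is the direct sum of the stalk functors above. -/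
noncomputable def isColimitSingleNat :
    IsColimit (Cofan.mk (shriek₀ f ⋙ EtCoh.stalk η) (singleNat f η)) :=
  evaluationJointlyReflectsColimits _ fun F =>
    IsColimit.equivOfNatIsoOfIso
      (Discrete.natIso fun _ => Iso.refl _ : Discrete.functor (fun ξ : PointsOver f η => (EtCoh.stalk ξ.1).obj F) ≅
        Discrete.functor (fun ξ : PointsOver f η => EtCoh.stalk ξ.1) ⋙ (evaluation _ _).obj F)
      (Cofan.mk _ (single f η F))
      (((evaluation _ _).obj F).mapCocone (Cofan.mk (shriek₀ f ⋙ EtCoh.stalk η) (singleNat f η)))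
      (Cocone.ext (Iso.refl _) fun ξ => by simp [singleNat])
      (isColimitSingle f η F)

instance preservesColimits_shriek₀_stalk :
    PreservesColimitsOfSize.{w, w} (shriek₀ f ⋙ EtCoh.stalk η) := by
  let D := Discrete.functor fun ξ : PointsOver f η => EtCoh.stalk ξ.1
  have e : shriek₀ f ⋙ EtCoh.stalk η ≅ D.flip ⋙ colim :=
    (isColimitSingleNat f η).coconePointUniqueUpToIso (colimit.isColimit D) ≪≫ colimitIsoFlipCompColim D
  have : PreservesColimitsOfSize.{w, w} D.flip := by
    constructor
    intro J _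
    constructor
    intro K
    constructor
    intro c hc
    refine ⟨evaluationJointlyReflectsColimits _ fun ξ => ?_⟩
    have : PreservesColimitsOfSize.{w, w} (EtCoh.stalk ξ.as.1) :=
      (Scheme.pointSmallEtale ξ.as.1).skyscraperSheafAdjunction.leftAdjoint_preservesColimits
    exact isColimitOfPreserves (EtCoh.stalk ξ.as.1) hc
  have : PreservesColimitsOfSize.{w, w} (colim : (Discrete (PointsOver f η) ⥤ AddCommGrpCat.{u + 1}) ⥤ _) :=
    colimConstAdj.leftAdjoint_preservesColimits
  exact preservesColimits_of_natIso e.symm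

end Stalk

/-- `f_!` preserves all colimits. -/
instance preservesColimitsOfShape_shriek₀ (J : Type w) [Category.{w} J]
    [HasColimitsOfShape J (EtCoh.Ab X)] [HasColimitsOfShape J (EtCoh.Ab Y)] :
    PreservesColimitsOfShape J (shriek₀ f) := by
  constructor
  intro K
  have : ∀ (Ω : Type u) [Field Ω] [IsSepClosed Ω] (η : Spec (CommRingCat.of Ω) ⟶ Y),
      IsIso ((EtCoh.stalk η).map (colimit.post K (shriek₀ f))) := by
    intro Ω _ _ η
    let σ : Spec (CommRingCat.of (AlgebraicClosure Ω)) ⟶ Spec (CommRingCat.of Ω) :=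
      Spec.map (CommRingCat.ofHom (algebraMap Ω (AlgebraicClosure Ω)))
    rw [NatIso.isIso_map_iff (EtaleSite.stalkExtIso σ η)]
    let S := EtCoh.stalk (σ ≫ η)
    have : PreservesColimitsOfSize.{w, w} S :=
      (Scheme.pointSmallEtale (σ ≫ η)).skyscraperSheafAdjunction.leftAdjoint_preservesColimits
    have h1 := isColimitOfPreserves (shriek₀ f ⋙ S) (colimit.isColimit K)
    have h2 := isColimitOfPreserves S (colimit.isColimit (K ⋙ shriek₀ f))
    have e : S.map (colimit.post K (shriek₀ f)) = (h2.coconePointUniqueUpToIso h1).hom := by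
      refine h2.hom_ext fun j => ?_
      rw [h2.comp_coconePointUniqueUpToIso_hom h1 j]
      exact ((S.map_comp _ _).symm.trans (congrArg S.map (colimit.ι_post K (shriek₀ f) j)))
    rw [e]; infer_instance
  have := EtaleSite.isIso_of_stalk _ this
  exact preservesColimit_of_isIso_post _ _

theorem preservesMonomorphisms_shriek₀ : (shriek₀ f).PreservesMonomorphisms := by
  constructor
  intro F G a _
  rw [EtaleSite.mono_iff_stalk]
  intro Ω _ _ η
  let σ : Spec (CommRingCat.of (AlgebraicClosure Ω)) ⟶ Spec (CommRingCat.of Ω) :=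
    Spec.map (CommRingCat.ofHom (algebraMap Ω (AlgebraicClosure Ω)))
  rw [← AddCommGrpCat.mono_iff_injective]
  refine ((MorphismProperty.monomorphisms AddCommGrpCat.{u + 1}).arrow_mk_iso_iff
    (((Functor.mapArrowFunctor _ _).mapIso (EtaleSite.stalkExtIso σ η)).app (Arrow.mk _))).2 ?_
  show Mono ((EtCoh.stalk (σ ≫ η)).map ((shriek₀ f).map a))
  rw [AddCommGrpCat.mono_iff_injective, injective_iff_map_eq_zero]
  intro p hp
  refine eq_zero_of_cmpS f (σ ≫ η) F p fun ξ hξ => ?_
  have h := ConcreteCategory.congr_hom (cmpS_naturality f ξ hξ a) p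
  simp only [ConcreteCategory.comp_apply] at h
  rw [hp, map_zero] at h
  have : Mono ((EtCoh.stalk ξ).map a) := inferInstance
  exact (AddCommGrpCat.mono_iff_injective _).1 this (h.symm.trans (map_zero _).symm)

theorem preservesFiniteLimits_shriek₀ : PreservesFiniteLimits (shriek₀ f) := by
  have : PreservesFiniteColimits (shriek₀ f) := ⟨fun J _ _ => inferInstance⟩
  have := preservesMonomorphisms_shriek₀ f
  refine ((shriek₀ f).preservesFiniteLimits_iff_forall_exact_map_and_mono).mpr fun S hS => ?_
  have := hS.mono_f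
  exact ⟨((shriek₀ f).preservesFiniteColimits_iff_forall_exact_map_and_epi.mp inferInstance S hS).1,
    inferInstance⟩

end Groth.Agent.EtShriekLib
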