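import Groth.Agent.EtShriekLib.Supp
import Groth.Agent.EtShriekLib.Proper

/-!
# Sections with proper support over the base
-/

universe u

open CategoryTheory CategoryTheory.Limits AlgebraicGeometry Opposite

namespace Groth.Agent.EtShriekLib

open EtShriek (sectSupp prV ShriekPred shriekSubgroup)

variable {X Y : Scheme.{u}} (f : X ⟶ Y) (F : EtCoh.Ab X)

theorem prV_isPullback {V V' : Y.Etale} (φ : V' ⟶ V) :
    IsPullback ((EtCoh.bc f).map φ).left (prV f V') (prV f V) φ.left := by
  have hsnd : ((EtCoh.bc f).map φ).left ≫ pullback.snd V.hom f = pullback.snd V'.hom f :=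
    pullback.lift_snd _ _ _
  have hfst : ((EtCoh.bc f).map φ).left ≫ prV f V = prV f V' ≫ φ.left :=
    pullback.lift_fst _ _ _
  refine IsPullback.of_right ?_ hfst ((IsPullback.of_hasPullback V.hom f).flip)
  rw [hsnd, show φ.left ≫ V.hom = V'.hom from MorphismProperty.Over.w φ]
  exact (IsPullback.of_hasPullback V'.hom f).flip

instance locallyOfFiniteType_prV [LocallyOfFiniteType f] (V : Y.Etale) :
    LocallyOfFiniteType (prV f V) :=
  MorphismProperty.pullback_fst (P := @LocallyOfFiniteType) _ _ ‹_›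

instance isSeparated_prV [IsSeparated f] (V : Y.Etale) : IsSeparated (prV f V) :=
  MorphismProperty.pullback_fst (P := @IsSeparated) _ _ ‹_›

/-- Proper support over `V` is hereditary. -/
theorem shriekPred_iff (V : Y.Etale) (s : EtCoh.sect F ((EtCoh.bc f).obj V)) :
    ShriekPred f F V s ↔ ClSub.IsProperOver (prV f V) (sectSupp F ((EtCoh.bc f).obj V) s) := by
  constructor
  · intro h
    obtain ⟨Z, hZ, hp⟩ := h V (𝟙 V)
    rw [sectSupp_map, CategoryTheory.Functor.map_id] at hZ
    exact ipo_mono _ hp (isClosed_sectSupp F _ s) hZ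
  · intro h V' φ
    refine ⟨_, subset_rfl, ?_⟩
    rw [sectSupp_map]
    exact ipo_preimage _ (prV_isPullback f φ) h

/-- The sections with proper support form the subgroup `shriekSubgroup`. -/
theorem mem_shriekSubgroup_iff [LocallyOfFiniteType f] (V : Y.Etale)
    (s : EtCoh.sect F ((EtCoh.bc f).obj V)) :
    s ∈ shriekSubgroup f F V ↔
      ClSub.IsProperOver (prV f V) (sectSupp F ((EtCoh.bc f).obj V) s) := by
  refine ⟨fun h => ?_, fun h => AddSubgroup.subset_closure ((shriekPred_iff f F V s).mpr h)⟩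
  induction h using AddSubgroup.closure_induction with
  | mem x hx => exact (shriekPred_iff f F V x).mp hx
  | zero => rw [sectSupp_zero]; exact ipo_empty _
  | add x y _ _ hx hy =>
    exact ipo_mono _ (ipo_union _ hx hy) (isClosed_sectSupp F _ _) (sectSupp_add F x y)
  | neg x _ hx => rwa [sectSupp_neg]

/-- The sections with proper support form a sheaf. -/
theorem isSheaf_lowerShriekPre [LocallyOfFiniteType f] :
    Presheaf.IsSheaf Y.smallEtaleTopology (EtShriek.lowerShriekPre f F) := by
  apply Presheaf.isSheaf_of_isSheaf_comp Y.smallEtaleTopology _ (forget AddCommGrpCat.{u + 1})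
  rw [isSheaf_iff_isSheaf_of_type]
  intro V S hS x hx
  let val : ∀ {W : Y.Etale}, (EtShriek.lowerShriekPre f F ⋙ forget AddCommGrpCat).obj (op W) →
      (((EtCoh.push f).obj F).obj ⋙ forget AddCommGrpCat).obj (op W) := fun {W} a =>
    (show shriekSubgroup f F W from a).1
  have hval : ∀ {W W' : Y.Etale} (g : W' ⟶ W) (a : (EtShriek.lowerShriekPre f F ⋙ forget AddCommGrpCat).obj (op W)),
      val ((EtShriek.lowerShriekPre f F ⋙ forget AddCommGrpCat).map g.op a) =
        (((EtCoh.push f).obj F).obj ⋙ forget AddCommGrpCat).map g.op (val a) := fun g a => rfl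
  have hinj : ∀ {W : Y.Etale}, Function.Injective (val (W := W)) := fun {W} a b h => Subtype.ext h
  let x' : Presieve.FamilyOfElements (((EtCoh.push f).obj F).obj ⋙ forget _) S.arrows :=
    fun W g hg => val (x g hg)
  have hx' : x'.Compatible := fun W₁ W₂ Z g₁ g₂ f₁ f₂ h₁ h₂ h =>
    ((hval g₁ _).symm.trans (congrArg val (hx g₁ g₂ h₁ h₂ h))).trans (hval g₂ _)
  obtain ⟨t, ht, huniq⟩ := EtaleSite.isSheaf_forget ((EtCoh.push f).obj F) S hS x' hx'
  let t₀ : EtCoh.sect F ((EtCoh.bc f).obj V) := t
  have hmem : t₀ ∈ shriekSubgroup f F V := by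
    rw [mem_shriekSubgroup_iff]
    refine ipo_of_forall_exists (isClosed_sectSupp F _ _) fun v => ?_
    obtain ⟨W, g, w, hg, hw⟩ := EtaleSite.exists_of_mem_topology hS v
    refine ⟨W.left, g.left, etale_left g, ⟨w, hw⟩, ?_⟩
    refine isProper_snd_of_preimage (prV_isPullback f g) _ ?_
    rw [← sectSupp_map]
    have hw' : F.obj.map ((EtCoh.bc f).map g).op t₀ ∈ shriekSubgroup f F W := by
      rw [show F.obj.map ((EtCoh.bc f).map g).op t₀ = val (x g hg) from ht g hg]
      exact (show shriekSubgroup f F W from x g hg).2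
    exact (mem_shriekSubgroup_iff f F W _).mp hw'
  refine ⟨(⟨t₀, hmem⟩ : shriekSubgroup f F V), fun W g hg => hinj ((hval g _).trans (ht g hg)), ?_⟩
  intro s hs
  exact hinj (huniq (val s) fun W g hg => (hval g s).symm.trans (congrArg val (hs g hg)))

end Groth.Agent.EtShriekLib
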