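import Groth.Agent.EtShriekLib.StalkIso
import Groth.Agent.EtTensLib.Stalk
import Groth.Agent.FlatTrace.Basic

/-!
# The projection formula for `f_!`

For a separated, locally quasi-finite `f` the map `f_! F ⊗ G ⟶ f_! (F ⊗ f^* G)` sending `s ⊗ r` to
`s ⊗ f^* r` is bijective on stalks.
-/

set_option autoImplicit false

universe u

open CategoryTheory CategoryTheory.Limits AlgebraicGeometry Opposite
open scoped TensorProduct

noncomputable section

namespace Groth.Agent.EtShriekLib

open EtShriek (sectSupp prV shriekSubgroup)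
open EtaleSite (germ bcPt cmpAt)
open EtTensLib (tens tm alpha toTens)

variable {X Y : Scheme.{u}} (f : X ⟶ Y) [LocallyOfFiniteType f] (F : EtCoh.Ab X) (G : EtCoh.Ab Y)

/-- `F ⊗ f^* G`. -/
abbrev projTarget : EtCoh.Ab X := tens F ((EtCoh.pull f).obj G)

/-- The pulled back section. -/
abbrev pullSec {V : Y.Etale} (r : G.obj.obj (op V)) :
    ((EtCoh.pull f).obj G).obj.obj (op ((EtCoh.bc f).obj V)) :=
  ((EtCoh.pullPushAdj f).unit.app G).hom.app (op V) r

theorem sectSupp_tm_subset {U : X.Etale} (H : EtCoh.Ab X) (s : F.obj.obj (op U))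
    (r : H.obj.obj (op U)) : sectSupp (tens F H) U (tm F H s r) ⊆ sectSupp F U s := by
  intro x hx W g hw h0
  refine hx W g hw ?_
  rw [EtTensLib.map_tm, h0]
  exact EtTensLib.tm_zero_left F H _

theorem tm_mem {V : Y.Etale} (s : shriekSubgroup f F V) (r : G.obj.obj (op V)) :
    tm F ((EtCoh.pull f).obj G) (s.1 : F.obj.obj (op ((EtCoh.bc f).obj V))) (pullSec f G r) ∈
      shriekSubgroup f (projTarget f F G) V := by
  rw [mem_shriekSubgroup_iff]
  exact ipo_mono _ ((mem_shriekSubgroup_iff f F V _).1 s.2) (isClosed_sectSupp _ _ _)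
    (sectSupp_tm_subset F _ _ _)

/-- The projection formula map on sections. -/
def projBil (V : Y.Etale) :
    (shriekSubgroup f F V) →+ (G.obj.obj (op V)) →+ shriekSubgroup f (projTarget f F G) V :=
  AddMonoidHom.mk' (fun s => AddMonoidHom.mk'
      (fun r => (⟨_, tm_mem f F G s r⟩ : shriekSubgroup f (projTarget f F G) V))
      fun r r' => Subtype.ext (by
        show tm F _ _ (pullSec f G (r + r')) = tm F _ _ (pullSec f G r) + tm F _ _ (pullSec f G r')
        rw [pullSec, map_add]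
        exact EtTensLib.tm_add_right F _ _ _ _))
    fun s s' => AddMonoidHom.ext fun r => Subtype.ext (EtTensLib.tm_add_left F _ _ _ _)

/-- The projection formula map of presheaves. -/
def projPre : EtTens.tensorObj ((shriek₀ f).obj F).obj G.obj ⟶
    ((shriek₀ f).obj (projTarget f F G)).obj where
  app V := AddCommGrpCat.ofHom (TensorProduct.liftAddHom (projBil f F G V.unop) fun n s r => by
    rw [map_zsmul, map_zsmul, AddMonoidHom.smul_apply])
  naturality V W φ := EtTens.hom_ext_tmul fun s r => Subtype.ext (by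
    show tm F _ (F.obj.map ((EtCoh.bc f).map φ.unop).op s.1) (pullSec f G (G.obj.map φ r)) =
      (projTarget f F G).obj.map ((EtCoh.bc f).map φ.unop).op (tm F _ s.1 (pullSec f G r))
    rw [EtTensLib.map_tm]
    exact congrArg (tm F _ _) (NatTrans.naturality_apply ((EtCoh.pullPushAdj f).unit.app G).hom φ r))

/-- The projection formula map. -/
def projMap : tens ((shriek₀ f).obj F) G ⟶ (shriek₀ f).obj (projTarget f F G) :=
  ⟨sheafifyLift Y.smallEtaleTopology (projPre f F G) ((shriek₀ f).obj (projTarget f F G)).property⟩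

theorem projMap_tm {V : Y.Etale} (s : shriekSubgroup f F V) (r : G.obj.obj (op V)) :
    (projMap f F G).hom.app (op V) (tm ((shriek₀ f).obj F) G s r) =
      (⟨_, tm_mem f F G s r⟩ : shriekSubgroup f (projTarget f F G) V) :=
  congrArg (fun k : EtTens.tensorObj ((shriek₀ f).obj F).obj G.obj ⟶
      ((shriek₀ f).obj (projTarget f F G)).obj => k.app (op V) (s ⊗ₜ[ℤ] r))
    (toSheafify_sheafifyLift Y.smallEtaleTopology (projPre f F G) ((shriek₀ f).obj (projTarget f F G)).property)

section Stalk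

variable [IsSeparated f] [LocallyQuasiFinite f] {Ω : Type u} [Field Ω] [IsAlgClosed Ω]
  (η : Spec (CommRingCat.of Ω) ⟶ Y)

/-- The stalk of `G` at the image, inside the stalk of `f^* G`. -/
def pullPt (ξ : PointsOver f η) :
    (EtCoh.stalk η).obj G →+ (EtCoh.stalk ξ.1).obj ((EtCoh.pull f).obj G) :=
  ((FlatTrace.pullAt f (η := η) ⟨ξ.1, ξ.2⟩).inv.app G).hom

theorem pullPt_bijective (ξ : PointsOver f η) : Function.Bijective (pullPt f G η ξ) :=
  ConcreteCategory.bijective_of_isIso ((FlatTrace.pullAt f (η := η) ⟨ξ.1, ξ.2⟩).inv.app G)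

theorem pullPt_germ (ξ : PointsOver f η) (V : Y.Etale)
    (t : (Scheme.pointSmallEtale η).fiber.obj V) (r : G.obj.obj (op V)) :
    pullPt f G η ξ (germ η G V t r) =
      germ ξ.1 ((EtCoh.pull f).obj G) ((EtCoh.bc f).obj V) (bcPt f ξ.1 ξ.2 V t) (pullSec f G r) := by
  refine (congrArg ((FlatTrace.pullAt f (η := η) ⟨ξ.1, ξ.2⟩).inv.app G)
    (FlatTrace.pullAt_germ_unit f ⟨ξ.1, ξ.2⟩ G V t r).symm).trans ?_
  exact ConcreteCategory.congr_hom
    ((FlatTrace.pullAt f (η := η) ⟨ξ.1, ξ.2⟩).hom_inv_id_app G) _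

/-- The component at `ξ` before tensoring. -/
def compT (ξ : PointsOver f η) :
    (EtCoh.stalk η).obj ((shriek₀ f).obj F) ⊗[ℤ] (EtCoh.stalk η).obj G →+
      (EtCoh.stalk ξ.1).obj F ⊗[ℤ] (EtCoh.stalk η).obj G :=
  (TensorProduct.map (cmpS f ξ.1 ξ.2 F).hom.toIntLinearMap LinearMap.id).toAddMonoidHom

/-- Extension by zero before tensoring. -/
def singleT (ξ : PointsOver f η) :
    (EtCoh.stalk ξ.1).obj F ⊗[ℤ] (EtCoh.stalk η).obj G →+
      (EtCoh.stalk η).obj ((shriek₀ f).obj F) ⊗[ℤ] (EtCoh.stalk η).obj G :=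
  (TensorProduct.map (single f η F ξ).hom.toIntLinearMap LinearMap.id).toAddMonoidHom

/-- The stalk of `F ⊗ f^* G` at a point above. -/
def alphaPt (ξ : PointsOver f η) :
    (EtCoh.stalk ξ.1).obj F ⊗[ℤ] (EtCoh.stalk η).obj G →+ (EtCoh.stalk ξ.1).obj (projTarget f F G) :=
  (alpha ξ.1 F ((EtCoh.pull f).obj G)).comp
    (TensorProduct.map LinearMap.id (pullPt f G η ξ).toIntLinearMap).toAddMonoidHom

theorem alphaPt_bijective (ξ : PointsOver f η) : Function.Bijective (alphaPt f F G η ξ) := by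
  refine (EtTensLib.alpha_bijective ξ.1 F ((EtCoh.pull f).obj G)).comp ?_
  let e : (EtCoh.stalk η).obj G ≃ₗ[ℤ] (EtCoh.stalk ξ.1).obj ((EtCoh.pull f).obj G) :=
    (AddEquiv.ofBijective _ (pullPt_bijective f G η ξ)).toIntLinearEquiv
  exact (TensorProduct.congr (LinearEquiv.refl ℤ _) e).bijective

/-- The stalk of the projection formula map. -/
def projStalk : (EtCoh.stalk η).obj ((shriek₀ f).obj F) ⊗[ℤ] (EtCoh.stalk η).obj G →+
    (EtCoh.stalk η).obj ((shriek₀ f).obj (projTarget f F G)) :=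
  ((EtCoh.stalk η).map (projMap f F G)).hom.comp (alpha η ((shriek₀ f).obj F) G)

theorem cmpS_projStalk (ξ : PointsOver f η)
    (x : (EtCoh.stalk η).obj ((shriek₀ f).obj F) ⊗[ℤ] (EtCoh.stalk η).obj G) :
    cmpS f ξ.1 ξ.2 (projTarget f F G) (projStalk f F G η x) =
      alphaPt f F G η ξ (compT f F G η ξ x) := by
  let L := (cmpS f ξ.1 ξ.2 (projTarget f F G)).hom.comp (projStalk f F G η)
  let R := (alphaPt f F G η ξ).comp (compT f F G η ξ)
  show L x = R x
  induction x using TensorProduct.induction_on with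
  | zero => exact (map_zero L).trans (map_zero R).symm
  | add a b ha hb => exact (map_add L a b).trans ((congrArg₂ (· + ·) ha hb).trans (map_add R a b).symm)
  | tmul p q =>
    obtain ⟨V, t, s, r, rfl, rfl⟩ := EtTensLib.exists_common η ((shriek₀ f).obj F) G p q
    show cmpS f ξ.1 ξ.2 _ ((EtCoh.stalk η).map (projMap f F G) (alpha η _ G _)) = _
    rw [EtTensLib.alpha_germ, EtaleSite.germ_naturality]
    refine (congrArg (fun z => cmpS f ξ.1 ξ.2 (projTarget f F G)
      (germ η ((shriek₀ f).obj (projTarget f F G)) V t z)) (projMap_tm f F G s r)).trans ?_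
    refine (cmpS_germ f ξ.1 ξ.2 (projTarget f F G) V t _).trans ?_
    refine (EtTensLib.alpha_germ ξ.1 F ((EtCoh.pull f).obj G) _ _ _).symm.trans ?_
    show _ = alpha ξ.1 F ((EtCoh.pull f).obj G)
      (cmpS f ξ.1 ξ.2 F (germ η ((shriek₀ f).obj F) V t s) ⊗ₜ[ℤ] pullPt f G η ξ (germ η G V t r))
    exact (congrArg₂ (fun a b => alpha ξ.1 F ((EtCoh.pull f).obj G) (a ⊗ₜ[ℤ] b))
      (cmpS_germ f ξ.1 ξ.2 F V t s) (pullPt_germ f G η ξ V t r)).symm

theorem exists_finset_singleT
    (x : (EtCoh.stalk η).obj ((shriek₀ f).obj F) ⊗[ℤ] (EtCoh.stalk η).obj G) :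
    ∃ S : Finset (PointsOver f η), ∀ S', S ⊆ S' →
      x = ∑ ξ ∈ S', singleT f F G η ξ (compT f F G η ξ x) := by
  classical
  induction x using TensorProduct.induction_on with
  | zero => exact ⟨∅, fun S' _ => (Finset.sum_eq_zero fun ξ _ => by rw [map_zero, map_zero]).symm⟩
  | tmul p q =>
    refine ⟨(finite_cmpS_ne f η F p).toFinset, fun S' hS' => ?_⟩
    show p ⊗ₜ[ℤ] q = ∑ ξ ∈ S', single f η F ξ (cmpS f ξ.1 ξ.2 F p) ⊗ₜ[ℤ] q
    rw [← TensorProduct.sum_tmul]
    refine congrArg (fun a => a ⊗ₜ[ℤ] q) ((sum_single f η F p).trans ?_)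
    refine Finset.sum_subset hS' fun ξ _ hξ => ?_
    rw [Set.Finite.mem_toFinset, Set.mem_setOf_eq, not_not] at hξ
    exact (congrArg (single f η F ξ) hξ).trans (map_zero _)
  | add a b ha hb =>
    obtain ⟨S, hS⟩ := ha
    obtain ⟨T, hT⟩ := hb
    refine ⟨S ∪ T, fun S' hS' => ?_⟩
    simp only [map_add, Finset.sum_add_distrib]
    exact congrArg₂ (· + ·) (hS S' (Finset.union_subset_left hS')) (hT S' (Finset.union_subset_right hS'))

theorem singleT_self (ξ : PointsOver f η)
    (z : (EtCoh.stalk ξ.1).obj F ⊗[ℤ] (EtCoh.stalk η).obj G) :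
    compT f F G η ξ (singleT f F G η ξ z) = z := by
  induction z using TensorProduct.induction_on with
  | zero => rw [map_zero, map_zero]
  | tmul a b => exact congrArg (fun c => c ⊗ₜ[ℤ] b) (cmpS_single_self f η F ξ a)
  | add a b ha hb => rw [map_add, map_add, ha, hb]

theorem singleT_ne (ξ ξ' : PointsOver f η) (h : ξ' ≠ ξ)
    (z : (EtCoh.stalk ξ.1).obj F ⊗[ℤ] (EtCoh.stalk η).obj G) :
    compT f F G η ξ' (singleT f F G η ξ z) = 0 := by
  induction z using TensorProduct.induction_on with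
  | zero => rw [map_zero, map_zero]
  | tmul a b => exact (congrArg (fun c => c ⊗ₜ[ℤ] b) (cmpS_single_ne f η F ξ ξ' h a)).trans (TensorProduct.zero_tmul _ b)
  | add a b ha hb => rw [map_add, map_add, ha, hb, add_zero]

theorem projStalk_bijective : Function.Bijective (projStalk f F G η) := by
  classical
  constructor
  · rw [injective_iff_map_eq_zero]
    intro x hx
    obtain ⟨S, hS⟩ := exists_finset_singleT f F G η x
    rw [hS S subset_rfl]
    refine Finset.sum_eq_zero fun ξ _ => ?_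
    have h := cmpS_projStalk f F G η ξ x
    rw [hx, map_zero] at h
    rw [(injective_iff_map_eq_zero _).1 (alphaPt_bijective f F G η ξ).1 _ h.symm, map_zero]
  · intro p
    choose c hc using fun ξ => (alphaPt_bijective f F G η ξ).2 (cmpS f ξ.1 ξ.2 (projTarget f F G) p)
    refine ⟨∑ ξ ∈ (finite_cmpS_ne f η (projTarget f F G) p).toFinset, singleT f F G η ξ (c ξ), ?_⟩
    refine eq_of_cmpS f η _ _ _ fun ξ => ?_
    rw [cmpS_projStalk, map_sum]
    by_cases h : ξ ∈ (finite_cmpS_ne f η (projTarget f F G) p).toFinset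
    · rw [Finset.sum_eq_single_of_mem ξ h (fun ξ' _ hne => singleT_ne f F G η ξ' ξ hne.symm _),
        singleT_self, hc]
    · rw [Finset.sum_eq_zero fun ξ' hξ' => singleT_ne f F G η ξ' ξ (fun e => h (e ▸ hξ')) _, map_zero]
      rw [Set.Finite.mem_toFinset, Set.mem_setOf_eq, not_not] at h
      exact h.symm

theorem isIso_stalk_projMap : IsIso ((EtCoh.stalk η).map (projMap f F G)) := by
  refine (ConcreteCategory.isIso_iff_bijective _).2 ?_
  exact (Function.Bijective.of_comp_iff _ (EtTensLib.alpha_bijective η ((shriek₀ f).obj F) G)).1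
    (projStalk_bijective f F G η)

end Stalk

theorem nonempty_projection [IsSeparated f] [LocallyQuasiFinite f] :
    Nonempty ((EtTens.tensorBi.obj ((EtShriek.lowerShriek f).obj F)).obj G ≅
      (EtShriek.lowerShriek f).obj (projTarget f F G)) := by
  have : IsIso (projMap f F G) := EtaleSite.isIso_of_stalk _ fun Ω _ _ η => by
    let σ : Spec (CommRingCat.of (AlgebraicClosure Ω)) ⟶ Spec (CommRingCat.of Ω) :=
      Spec.map (CommRingCat.ofHom (algebraMap Ω (AlgebraicClosure Ω)))
    rw [NatIso.isIso_map_iff (EtaleSite.stalkExtIso σ η)]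
    exact isIso_stalk_projMap f F G _
  exact ⟨(EtTens.tensorBi.mapIso ((shriekIso f).app F)).app G ≪≫ asIso (projMap f F G) ≪≫
    ((shriekIso f).app _).symm⟩

end Groth.Agent.EtShriekLib
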