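import Groth.Agent.EtShriekLib.Sheaf
import Groth.Agent.EtaleSite.PushFiber
import Groth.Agent.EtaleSite.PushImage
import Mathlib.AlgebraicGeometry.ZariskisMainTheorem

/-!
# Stalks of direct images with proper support along locally quasi-finite morphisms
-/

universe u

open CategoryTheory CategoryTheory.Limits AlgebraicGeometry Opposite

namespace Groth.Agent.EtShriekLib

open EtShriek (sectSupp prV shriekSubgroup)
open EtaleSite (germ bcPt cmpAt)

variable {X Y : Scheme.{u}} (f : X ⟶ Y) [LocallyOfFiniteType f] [IsSeparated f]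
  [LocallyQuasiFinite f]

/-- The component at a point above of a stalk of `f_!`. -/
noncomputable def cmpS {Ω : Type u} [Field Ω] [IsSepClosed Ω] {η : Spec (CommRingCat.of Ω) ⟶ Y}
    (ξ : Spec (CommRingCat.of Ω) ⟶ X) (hξ : ξ ≫ f = η) (F : EtCoh.Ab X) :
    (EtCoh.stalk η).obj ((shriek₀ f).obj F) ⟶ (EtCoh.stalk ξ).obj F :=
  (EtCoh.stalk η).map ((shriek₀ι f).app F) ≫ cmpAt f ξ hξ F

omit [IsSeparated f] [LocallyQuasiFinite f] in
theorem cmpS_germ {Ω : Type u} [Field Ω] [IsSepClosed Ω] {η : Spec (CommRingCat.of Ω) ⟶ Y}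
    (ξ : Spec (CommRingCat.of Ω) ⟶ X) (hξ : ξ ≫ f = η) (F : EtCoh.Ab X) (V : Y.Etale)
    (φ : (Scheme.pointSmallEtale η).fiber.obj V) (s : shriekSubgroup f F V) :
    cmpS f ξ hξ F (germ η ((shriek₀ f).obj F) V φ s) =
      germ ξ F ((EtCoh.bc f).obj V) (bcPt f ξ hξ V φ) s.1 := by
  rw [cmpS, ConcreteCategory.comp_apply, EtaleSite.germ_naturality, EtaleSite.cmpAt_germ]
  rfl

omit [IsSeparated f] [LocallyQuasiFinite f] in
theorem cmpS_naturality {Ω : Type u} [Field Ω] [IsSepClosed Ω] {η : Spec (CommRingCat.of Ω) ⟶ Y}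
    (ξ : Spec (CommRingCat.of Ω) ⟶ X) (hξ : ξ ≫ f = η) {F G : EtCoh.Ab X} (a : F ⟶ G) :
    (EtCoh.stalk η).map ((shriek₀ f).map a) ≫ cmpS f ξ hξ G =
      cmpS f ξ hξ F ≫ (EtCoh.stalk ξ).map a := by
  ext p
  obtain ⟨V, φ, s, rfl⟩ := EtaleSite.exists_germ_eq η ((shriek₀ f).obj F) p
  simp only [ConcreteCategory.comp_apply, EtaleSite.germ_naturality]
  refine (cmpS_germ f ξ hξ G V φ _).trans ?_
  rw [cmpS_germ]
  exact (EtaleSite.germ_naturality ξ a _ _ _).symm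

/-- The support of a section with proper support is finite over the base. -/
theorem isFinite_supp {F : EtCoh.Ab X} {V : Y.Etale} {s : EtCoh.sect F ((EtCoh.bc f).obj V)}
    (hs : ClSub.IsProperOver (prV f V) (sectSupp F ((EtCoh.bc f).obj V) s)) :
    IsFinite (redι hs.1 ≫ prV f V) := by
  have := isProper_redι _ hs
  have : LocallyQuasiFinite (prV f V) :=
    MorphismProperty.pullback_fst (P := @LocallyQuasiFinite) _ _ ‹_›
  exact IsFinite.of_isProper_of_locallyQuasiFinite _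

variable {Ω : Type u} [Field Ω] [IsAlgClosed Ω] (η : Spec (CommRingCat.of Ω) ⟶ Y) (F : EtCoh.Ab X)

/-- A germ of `f_!` is determined by its components at the points above. -/
theorem eq_zero_of_cmpS (p : (EtCoh.stalk η).obj ((shriek₀ f).obj F))
    (h : ∀ ξ (hξ : ξ ≫ f = η), cmpS f ξ hξ F p = 0) : p = 0 := by
  obtain ⟨V, φ, s, rfl⟩ := EtaleSite.exists_germ_eq η ((shriek₀ f).obj F) p
  rw [germ_eq_zero_iff, sectSupp_shriek₀]
  rintro ⟨x, hx, hxv⟩
  have hs := (mem_shriekSubgroup_iff f F V _).mp (show shriekSubgroup f F V from s).2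
  have := isFinite_supp f hs
  let φl : Spec (CommRingCat.of Ω) ⟶ V.left := φ.left
  obtain ⟨z, hz⟩ := (range_redι hs.1).ge hx
  obtain ⟨ζ, hζ, hζz⟩ := EtaleSite.exists_point_over (redι hs.1 ≫ prV f V) φl z
    ((congrArg (prV f V) hz).trans hxv)
  let ℓ : Spec (CommRingCat.of Ω) ⟶ pullback V.hom f := ζ ≫ redι hs.1
  have hℓ : ℓ ≫ prV f V = φl := (Category.assoc _ _ _).trans hζ
  have hξ : (ℓ ≫ pullback.snd V.hom f) ≫ f = η := by
    rw [Category.assoc, ← pullback.condition, ← Category.assoc]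
    exact (congrArg (· ≫ V.hom) hℓ).trans (Over.w φ)
  have h0 := h _ hξ
  rw [cmpS_germ, germ_eq_zero_iff] at h0
  refine h0 ?_
  have e : pullback.lift φl (ℓ ≫ pullback.snd V.hom f) ((Over.w φ).trans hξ.symm) = ℓ :=
    pullback.hom_ext ((pullback.lift_fst _ _ _).trans hℓ.symm) (pullback.lift_snd _ _ _)
  show pullback.lift φl (ℓ ≫ pullback.snd V.hom f) ((Over.w φ).trans hξ.symm) default ∈ _
  rw [e]
  show redι hs.1 (ζ default) ∈ _
  rw [hζz, hz]
  exact hx

/-- Only finitely many components of a germ of `f_!` are non-zero. -/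
theorem finite_cmpS_ne (p : (EtCoh.stalk η).obj ((shriek₀ f).obj F)) :
    {ξ : {ξ : Spec (CommRingCat.of Ω) ⟶ X // ξ ≫ f = η} | cmpS f ξ.1 ξ.2 F p ≠ 0}.Finite := by
  obtain ⟨V, φ, s, rfl⟩ := EtaleSite.exists_germ_eq η ((shriek₀ f).obj F) p
  have hs := (mem_shriekSubgroup_iff f F V _).mp (show shriekSubgroup f F V from s).2
  have := isFinite_supp f hs
  let φl : Spec (CommRingCat.of Ω) ⟶ V.left := φ.left
  have := EtaleSite.finite_points (redι hs.1 ≫ prV f V) φl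
  refine Set.Finite.subset (Set.finite_range fun ζ : {ζ // ζ ≫ redι hs.1 ≫ prV f V = φl} =>
    (⟨ζ.1 ≫ redι hs.1 ≫ pullback.snd V.hom f, by
      have c : pullback.fst V.hom f ≫ V.hom = pullback.snd V.hom f ≫ f := pullback.condition
      have e : (ζ.1 ≫ redι hs.1) ≫ pullback.fst V.hom f = φl := (Category.assoc _ _ _).trans ζ.2
      have := congrArg (· ≫ V.hom) e
      simp only [Category.assoc] at this
      simp only [Category.assoc]
      exact ((congrArg (fun q => ζ.1 ≫ redι hs.1 ≫ q) c).symm.trans this).trans (Over.w φ)⟩ :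
      {ξ : Spec (CommRingCat.of Ω) ⟶ X // ξ ≫ f = η})) ?_
  rintro ⟨ξ, hξ⟩ hne
  rw [Set.mem_setOf_eq, cmpS_germ, ne_eq, germ_eq_zero_iff, not_not] at hne
  let ℓ : Spec (CommRingCat.of Ω) ⟶ pullback V.hom f := pullback.lift φl ξ ((Over.w φ).trans hξ.symm)
  obtain ⟨ζ, hζ⟩ := RedSub.exists_lift_closed (redι hs.1) ℓ (by
    rw [range_redι]
    rintro _ ⟨o, rfl⟩
    rw [Subsingleton.elim o default]
    exact hne)
  exact ⟨⟨ζ, by rw [reassoc_of% hζ]; exact pullback.lift_fst _ _ _⟩,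
    Subtype.ext (by
      show ζ ≫ redι hs.1 ≫ pullback.snd V.hom f = ξ
      rw [reassoc_of% hζ]; exact pullback.lift_snd _ _ _)⟩

set_option backward.isDefEq.respectTransparency.types false in
/-- Every germ at one point above extends by zero. -/
theorem exists_cmpS_single (ξ : Spec (CommRingCat.of Ω) ⟶ X) (hξ : ξ ≫ f = η)
    (q : (EtCoh.stalk ξ).obj F) :
    ∃ p : (EtCoh.stalk η).obj ((shriek₀ f).obj F), cmpS f ξ hξ F p = q ∧
      ∀ ξ' (hξ' : ξ' ≫ f = η), ξ' ≠ ξ → cmpS f ξ' hξ' F p = 0 := by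
  classical
  obtain ⟨U, x, t, rfl⟩ := EtaleSite.exists_germ_eq ξ F q
  -- a finite clopen piece around the point over an étale neighbourhood
  obtain ⟨S', g₀, hg₀, -, A₀, B₀, v, hAB, hfin, hv⟩ :=
    exists_etale_isCompl_of_quasiFiniteAt f (x := ξ default) rfl (f.quasiFiniteAt (ξ default))
  let V₀ : Y.Etale := Scheme.Etale.mk g₀
  let P := pullback g₀ f
  let σ : P ⟶ pullback f g₀ := (pullbackSymmetry g₀ f).hom
  let A : P.Opens := σ ⁻¹ᵁ A₀
  let B : P.Opens := σ ⁻¹ᵁ B₀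
  have hcompl : (A : Set P)ᶜ = (B : Set P) := by
    ext z
    have h1 : σ z ∈ A₀ ∨ σ z ∈ B₀ := (hAB.sup_eq_top ▸ trivial : σ z ∈ A₀ ⊔ B₀)
    have h2 : ¬(σ z ∈ A₀ ∧ σ z ∈ B₀) := fun h => (hAB.inf_eq_bot ▸ h : σ z ∈ (⊥ : (pullback f g₀).Opens))
    show ¬σ z ∈ A₀ ↔ σ z ∈ B₀
    tauto
  have hAcl : IsClosed (A : Set P) := by
    rw [← isOpen_compl_iff, hcompl]; exact B.2
  let a : (A : Scheme.{u}) ⟶ S' := A.ι ≫ pullback.fst g₀ f
  have : IsFinite a := by
    have e : a = (σ ∣_ A₀) ≫ A₀.ι ≫ pullback.snd f g₀ := by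
      rw [← Category.assoc, morphismRestrict_ι, Category.assoc]
      exact congrArg (A.ι ≫ ·) (pullbackSymmetry_hom_comp_snd g₀ f).symm
    rw [e]; infer_instance
  have : IsClosedImmersion A.ι :=
    IsClosedImmersion.of_isPreimmersion _ (by rw [Scheme.Opens.range_ι]; exact hAcl)
  let z₀ : P := (pullbackSymmetry g₀ f).inv v.1
  have hz₀σ : σ z₀ = v.1 := by
    show ((pullbackSymmetry g₀ f).inv ≫ σ) v.1 = v.1
    rw [Iso.inv_hom_id]; rfl
  have hz₀ : z₀ ∈ A := by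
    show σ z₀ ∈ A₀
    rw [hz₀σ]; exact v.2
  have hz₀ξ : pullback.snd g₀ f z₀ = ξ default := by
    rw [← hv, ← hz₀σ]
    exact congrArg (fun q => q z₀) (pullbackSymmetry_hom_comp_fst g₀ f).symm
  have : Etale g₀ := hg₀
  have : Etale (pullback.snd g₀ f) := MorphismProperty.pullback_snd (P := @Etale) _ _ hg₀
  obtain ⟨ρ₀, hρ₀, hρ₀z⟩ := Scheme.exists_fac_of_etale_of_isSepClosed (pullback.snd g₀ f) ξ z₀ hz₀ξ
  let ρ : Spec (CommRingCat.of Ω) ⟶ (A : Scheme.{u}) := IsOpenImmersion.lift A.ι ρ₀ (by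
    rintro _ ⟨o, rfl⟩
    rw [Scheme.Opens.range_ι, Subsingleton.elim o default, hρ₀z]; exact hz₀)
  have hρ : ρ ≫ A.ι = ρ₀ := IsOpenImmersion.lift_fac _ _ _
  let η' : Spec (CommRingCat.of Ω) ⟶ S' := ρ₀ ≫ pullback.fst g₀ f
  have hη' : η' ≫ g₀ = η := by
    rw [Category.assoc, pullback.condition, reassoc_of% hρ₀, hξ]
  have hρa : ρ ≫ a = η' := by rw [← Category.assoc, hρ]
  -- split the chosen germ from the other points
  let b : (A : Scheme.{u}) ⟶ X := A.ι ≫ pullback.snd g₀ f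
  have : Etale U.hom := U.prop
  let Uf : ULift.{u} Bool → Scheme.{u} := fun i => cond i.down (pullback U.hom b) A
  let gf : ∀ i, Uf i ⟶ (A : Scheme.{u}) := fun ⟨i⟩ => match i with
    | true => pullback.snd U.hom b
    | false => 𝟙 _
  have : ∀ i, Etale (gf i) := fun ⟨i⟩ => match i with
    | true => MorphismProperty.pullback_snd (P := @Etale) _ _ U.prop
    | false => inferInstanceAs (Etale (𝟙 (A : Scheme.{u})))
  have : Etale (Sigma.desc gf) := EtaleSite.etale_sigmaDesc gf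
  let xl : Spec (CommRingCat.of Ω) ⟶ U.left := x.left
  have hxb : xl ≫ U.hom = ρ ≫ b := by
    rw [← Category.assoc, hρ, hρ₀]; exact Over.w x
  obtain ⟨V₁, y, hy, h, hh, hφ⟩ := EtaleSite.split_finite a η' (𝟙 _) (Sigma.desc gf)
    (fun ξ'' _ => if ξ'' = ρ then pullback.lift xl ρ hxb ≫ Sigma.ι Uf ⟨true⟩ else ξ'' ≫ Sigma.ι Uf ⟨false⟩)
    (fun ξ'' _ => by
      split_ifs with hc
      · rw [Category.assoc, Sigma.ι_desc, hc]; exact pullback.lift_snd _ _ _
      · rw [Category.assoc, Sigma.ι_desc]; exact Category.comp_id _)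
  obtain ⟨W, hd, hcov, hk⟩ := EtaleSite.exists_pieces h
  obtain ⟨k', hk'⟩ := hk ⟨false⟩
  obtain ⟨k, hk⟩ := hk ⟨true⟩
  let k₁ : (W ⟨true⟩ : Scheme.{u}) ⟶ U.left := k ≫ pullback.fst U.hom b
  have hk₁ : k₁ ≫ U.hom = (W ⟨true⟩).ι ≫ pullback.snd V₁.hom a ≫ b := by
    have e1 : k ≫ pullback.snd U.hom b = (W ⟨true⟩).ι ≫ pullback.snd V₁.hom a :=
      ((congrArg (k ≫ ·) (Sigma.ι_desc gf ⟨true⟩).symm).trans ((Category.assoc _ _ _).symm.trans
        ((congrArg (· ≫ Sigma.desc gf) hk).trans ((Category.assoc _ _ _).trans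
          (congrArg ((W ⟨true⟩).ι ≫ ·) hh)))))
    rw [Category.assoc, pullback.condition, ← Category.assoc, e1, Category.assoc]
  -- the corresponding piece over the neighbourhood
  have : Etale V₁.hom := V₁.prop
  let V₂ : Y.Etale := Scheme.Etale.mk (V₁.hom ≫ g₀)
  let e₂ : V₂ ⟶ V₀ := MorphismProperty.Over.homMk V₁.hom rfl
  let n : pullback (V₁.hom ≫ g₀) f ⟶ P := ((EtCoh.bc f).map e₂).left
  have sqn : IsPullback n (pullback.fst (V₁.hom ≫ g₀) f) (pullback.fst g₀ f) V₁.hom := prV_isPullback f e₂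
  have hn : n ≫ pullback.snd g₀ f = pullback.snd (V₁.hom ≫ g₀) f := pullback.lift_snd _ _ _
  let m : pullback V₁.hom a ⟶ pullback (V₁.hom ≫ g₀) f :=
    sqn.lift (pullback.snd V₁.hom a ≫ A.ι) (pullback.fst V₁.hom a)
      (by rw [Category.assoc]; exact pullback.condition.symm)
  have sqm : IsPullback m (pullback.snd V₁.hom a) n A.ι :=
    IsPullback.of_right (h₁₂ := pullback.fst (V₁.hom ≫ g₀) f) (v₁₃ := V₁.hom) (h₂₂ := pullback.fst g₀ f)
      (by rw [IsPullback.lift_snd]; exact IsPullback.of_hasPullback V₁.hom a)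
      (IsPullback.lift_fst _ _ _ _) sqn.flip
  have : IsOpenImmersion m := MorphismProperty.of_isPullback sqm.flip inferInstance
  have hmcl : IsClosedImmersion m := MorphismProperty.of_isPullback sqm.flip ‹IsClosedImmersion A.ι›
  let mT : (W ⟨true⟩ : Scheme.{u}) ⟶ pullback (V₁.hom ≫ g₀) f := (W ⟨true⟩).ι ≫ m
  let O : (pullback (V₁.hom ≫ g₀) f).Opens := mT.opensRange
  have hWcl : IsClosed (W ⟨true⟩ : Set ↥(pullback V₁.hom a)) := by
    rw [← isOpen_compl_iff]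
    have : ((W ⟨true⟩ : Set ↥(pullback V₁.hom a)))ᶜ = (W ⟨false⟩ : Set ↥(pullback V₁.hom a)) := by
      ext z
      refine ⟨fun hz => ?_, fun hz hz' => (hd ⟨true⟩ ⟨false⟩ (by simp)).le_bot ⟨hz', hz⟩⟩
      obtain ⟨⟨_ | _⟩, hi⟩ := hcov z
      · exact hi
      · exact absurd hi hz
    rw [this]; exact (W ⟨false⟩).2
  have hOcl : IsClosed (O : Set ↥(pullback (V₁.hom ≫ g₀) f)) := by
    show IsClosed (Set.range mT)
    rw [show (⇑mT) = ⇑m ∘ ⇑(W ⟨true⟩).ι from rfl, Set.range_comp, Scheme.Opens.range_ι]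
    exact m.isClosedMap _ hWcl
  let O' : (pullback (V₁.hom ≫ g₀) f).Opens := ⟨(O : Set ↥(pullback (V₁.hom ≫ g₀) f))ᶜ, hOcl.isOpen_compl⟩
  let T : X.Etale := (EtCoh.bc f).obj V₂
  let kO : EtaleSite.piece T O ⟶ U := MorphismProperty.Over.homMk (mT.isoOpensRange.inv ≫ k₁) (by
    show (mT.isoOpensRange.inv ≫ k₁) ≫ U.hom = O.ι ≫ pullback.snd (V₁.hom ≫ g₀) f
    rw [Category.assoc, hk₁, Iso.inv_comp_eq, ← Category.assoc mT.isoOpensRange.hom,
      Scheme.Hom.isoOpensRange_hom_ι, Category.assoc, ← hn, sqm.w_assoc]) trivial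
  let Wp : ULift.{u} Bool → T.left.Opens := fun i => cond i.down O O'
  obtain ⟨r, hr⟩ := EtaleSite.exists_glue_disjoint (U := T) F Wp
    (by
      rintro ⟨_ | _⟩ ⟨_ | _⟩ hne
      · exact absurd rfl hne
      · exact disjoint_iff.mpr (le_bot_iff.mp fun z hz => hz.1 hz.2)
      · exact disjoint_iff.mpr (le_bot_iff.mp fun z hz => hz.2 hz.1)
      · exact absurd rfl hne)
    (fun z => if hz : z ∈ O then ⟨⟨true⟩, hz⟩ else ⟨⟨false⟩, hz⟩)
    (fun ⟨i⟩ => match i with | true => F.obj.map kO.op t | false => 0)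
  have hsupp : sectSupp F T r ⊆ (O : Set ↥(pullback (V₁.hom ≫ g₀) f)) := fun z hz => by
    by_contra hzO
    have : (⟨z, hzO⟩ : O') ∈ sectSupp F (EtaleSite.piece T O')
        (F.obj.map (EtaleSite.pieceHom T O').op r) := by
      rw [sectSupp_map]; exact hz
    rw [show F.obj.map (EtaleSite.pieceHom T O').op r = 0 from hr ⟨false⟩, sectSupp_zero] at this
    exact this
  have hmem : r ∈ shriekSubgroup f F V₂ := by
    rw [mem_shriekSubgroup_iff]
    have hpm : IsProper (m ≫ prV f V₂) := by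
      rw [show m ≫ prV f V₂ = pullback.fst V₁.hom a from IsPullback.lift_snd _ _ _ _]
      exact MorphismProperty.pullback_fst (P := @IsProper) _ _ inferInstance
    exact @ipo_of_immersion _ _ (prV f V₂) _ m hmcl hpm _ (isClosed_sectSupp F T r) (hsupp.trans (by
      show Set.range mT ⊆ Set.range m
      rintro _ ⟨o, rfl⟩; exact ⟨_, rfl⟩))
  let φ : (Scheme.pointSmallEtale η).fiber.obj V₂ :=
    (Over.homMk y (by show y ≫ V₁.hom ≫ g₀ = η; rw [← Category.assoc, hy, hη']) :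
      Over.mk η ⟶ (Scheme.Etale.forget Y).obj V₂)
  -- the lifted points
  let ℓ : Spec (CommRingCat.of Ω) ⟶ pullback V₁.hom a := pullback.lift y ρ (hy.trans hρa.symm)
  have hℓh : ℓ ≫ h = pullback.lift xl ρ hxb ≫ Sigma.ι Uf ⟨true⟩ := by
    refine Eq.trans ?_ ((hφ ρ (hρa.trans (Category.id_comp η').symm)).trans (if_pos rfl))
    refine congrArg (· ≫ h) (pullback.hom_ext ?_ ?_) <;> simp [ℓ]
  have hℓW : ∀ o, ℓ o ∈ W ⟨true⟩ := fun o => by
    obtain ⟨⟨_ | _⟩, hi⟩ := hcov (ℓ o)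
    · exfalso
      refine (disjoint_opensRange_sigmaι Uf ⟨true⟩ ⟨false⟩ (by simp)).le_bot
        (show h (ℓ o) ∈ _ ⊓ _ from ⟨⟨pullback.lift xl ρ hxb o, (congrArg (fun q => q o) hℓh).symm⟩,
          ⟨k' ⟨ℓ o, hi⟩, congrArg (fun q => q ⟨ℓ o, hi⟩) hk'⟩⟩)
    · exact hi
  let l : Spec (CommRingCat.of Ω) ⟶ (W ⟨true⟩ : Scheme.{u}) := IsOpenImmersion.lift (W ⟨true⟩).ι ℓ (by
    rintro _ ⟨o, rfl⟩; rw [Scheme.Opens.range_ι]; exact hℓW o)
  have hl : l ≫ (W ⟨true⟩).ι = ℓ := IsOpenImmersion.lift_fac _ _ _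
  have hlk : l ≫ k₁ = xl := by
    have : l ≫ k = pullback.lift xl ρ hxb := by
      rw [← cancel_mono (Sigma.ι Uf ⟨true⟩), Category.assoc, hk, reassoc_of% hl, hℓh]
    rw [← Category.assoc, this, pullback.lift_fst]
  have hℓm : ℓ ≫ m = pullback.lift y ξ (by rw [← Category.assoc, hy, hη', hξ]) := by
    apply pullback.hom_ext
    · rw [Category.assoc, IsPullback.lift_snd, pullback.lift_fst, pullback.lift_fst]
    · rw [pullback.lift_snd, Category.assoc, ← hn, sqm.w_assoc, pullback.lift_snd_assoc, reassoc_of% hρ, hρ₀]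
  refine ⟨germ η ((shriek₀ f).obj F) V₂ φ (⟨r, hmem⟩ : shriekSubgroup f F V₂), ?_, ?_⟩
  · rw [cmpS_germ]
    let w : (Scheme.pointSmallEtale ξ).fiber.obj (EtaleSite.piece T O) :=
      (Over.homMk (l ≫ mT.isoOpensRange.hom) (by
        show (l ≫ mT.isoOpensRange.hom) ≫ O.ι ≫ pullback.snd (V₁.hom ≫ g₀) f = ξ
        rw [Category.assoc, Scheme.Hom.isoOpensRange_hom_ι_assoc, Category.assoc, reassoc_of% hl,
          reassoc_of% hℓm, pullback.lift_snd]) :
        Over.mk ξ ⟶ (Scheme.Etale.forget X).obj (EtaleSite.piece T O))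
    have hw : (Scheme.pointSmallEtale ξ).fiber.map (EtaleSite.pieceHom T O) w = bcPt f ξ hξ V₂ φ :=
      Over.OverMorphism.ext (by
        show (l ≫ mT.isoOpensRange.hom) ≫ O.ι = _
        rw [Category.assoc, Scheme.Hom.isoOpensRange_hom_ι, reassoc_of% hl, hℓm]
        rfl)
    have hwk : (Scheme.pointSmallEtale ξ).fiber.map kO w = x :=
      Over.OverMorphism.ext (by
        show (l ≫ mT.isoOpensRange.hom) ≫ mT.isoOpensRange.inv ≫ k₁ = xl
        rw [Category.assoc, Iso.hom_inv_id_assoc, hlk])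
    rw [← hw, ← EtaleSite.germ_res]
    refine (congrArg (germ ξ F _ w) (hr ⟨true⟩)).trans ?_
    rw [EtaleSite.germ_res, hwk]
  · intro ξ' hξ' hne
    rw [cmpS_germ, germ_eq_zero_iff]
    intro hmem'
    let L : Spec (CommRingCat.of Ω) ⟶ pullback (V₁.hom ≫ g₀) f :=
      pullback.lift y ξ' (by rw [← Category.assoc, hy, hη', hξ'])
    have hLO : Set.range L ⊆ Set.range mT := by
      rintro _ ⟨o, rfl⟩
      rw [Subsingleton.elim o default]
      exact hsupp hmem'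
    let L' := IsOpenImmersion.lift mT L hLO
    have hL' : L' ≫ mT = L := IsOpenImmersion.lift_fac _ _ _
    let ℓ' := L' ≫ (W ⟨true⟩).ι
    have hℓ'm : ℓ' ≫ m = L := by rw [Category.assoc]; exact hL'
    let ρ' := ℓ' ≫ pullback.snd V₁.hom a
    have hℓ'1 : ℓ' ≫ pullback.fst V₁.hom a = y := by
      rw [← IsPullback.lift_snd sqn (pullback.snd V₁.hom a ≫ A.ι) (pullback.fst V₁.hom a)
        (by rw [Category.assoc]; exact pullback.condition.symm), reassoc_of% hℓ'm, pullback.lift_fst]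
    have hρ'a : ρ' ≫ a = η' := by
      rw [Category.assoc, ← pullback.condition, reassoc_of% hℓ'1, hy]
    by_cases hc : ρ' = ρ
    · apply hne
      rw [← pullback.lift_snd (f := V₁.hom ≫ g₀) (g := f) y ξ' (by rw [← Category.assoc, hy, hη', hξ']),
        show pullback.lift y ξ' _ = L from rfl, ← hℓ'm, Category.assoc, ← hn, sqm.w_assoc,
        ← Category.assoc ℓ', show ℓ' ≫ pullback.snd V₁.hom a = ρ from hc, reassoc_of% hρ, hρ₀]
    · have e : ℓ' ≫ h = ρ' ≫ Sigma.ι Uf ⟨false⟩ := by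
        refine Eq.trans ?_ ((hφ ρ' (hρ'a.trans (Category.id_comp η').symm)).trans (if_neg hc))
        refine congrArg (· ≫ h) (pullback.hom_ext ?_ ?_)
        · rw [pullback.lift_fst, Category.id_comp, hℓ'1]
        · rw [pullback.lift_snd]
      have e2 : ℓ' ≫ h = (L' ≫ k) ≫ Sigma.ι Uf ⟨true⟩ := by
        rw [Category.assoc, Category.assoc, hk]
      exact (disjoint_opensRange_sigmaι Uf ⟨true⟩ ⟨false⟩ (by simp)).le_bot
        (show h (ℓ' default) ∈ _ ⊓ _ from ⟨⟨(L' ≫ k) default, (congrArg (fun q => q default) e2).symm⟩,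
          ⟨ρ' default, (congrArg (fun q => q default) e).symm⟩⟩)

end Groth.Agent.EtShriekLib
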