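import Groth.Agent.EtShriekLib.Stalk

/-!
# The stalks of `f_!` are direct sums
-/

universe u

open CategoryTheory CategoryTheory.Limits AlgebraicGeometry Opposite

namespace Groth.Agent.EtShriekLib

variable {X Y : Scheme.{u}} (f : X ⟶ Y) [LocallyOfFiniteType f] [IsSeparated f]
  [LocallyQuasiFinite f] {Ω : Type u} [Field Ω] [IsAlgClosed Ω]
  (η : Spec (CommRingCat.of Ω) ⟶ Y) (F : EtCoh.Ab X)

/-- The points above `η`. -/
abbrev PointsOver : Type u := {ξ : Spec (CommRingCat.of Ω) ⟶ X // ξ ≫ f = η}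

theorem eq_of_cmpS (p q : (EtCoh.stalk η).obj ((shriek₀ f).obj F))
    (h : ∀ ξ : PointsOver f η, cmpS f ξ.1 ξ.2 F p = cmpS f ξ.1 ξ.2 F q) : p = q :=
  sub_eq_zero.mp (eq_zero_of_cmpS f η F _ fun ξ hξ => by
    rw [map_sub, sub_eq_zero]; exact h ⟨ξ, hξ⟩)

/-- Extension by zero of a germ at one point above. -/
noncomputable def single (ξ : PointsOver f η) :
    (EtCoh.stalk ξ.1).obj F ⟶ (EtCoh.stalk η).obj ((shriek₀ f).obj F) :=
  AddCommGrpCat.ofHom (AddMonoidHom.mk' (fun q => (exists_cmpS_single f η F ξ.1 ξ.2 q).choose)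
    fun q q' => eq_of_cmpS f η F _ _ fun ξ' => by
      refine Eq.trans ?_ (map_add _ _ _).symm
      by_cases h : ξ' = ξ
      · subst h
        rw [(exists_cmpS_single f η F ξ'.1 ξ'.2 _).choose_spec.1,
          (exists_cmpS_single f η F ξ'.1 ξ'.2 q).choose_spec.1,
          (exists_cmpS_single f η F ξ'.1 ξ'.2 q').choose_spec.1]
        rfl
      · have h' : ξ'.1 ≠ ξ.1 := fun e => h (Subtype.ext e)
        rw [(exists_cmpS_single f η F ξ.1 ξ.2 _).choose_spec.2 _ _ h',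
          (exists_cmpS_single f η F ξ.1 ξ.2 q).choose_spec.2 _ _ h',
          (exists_cmpS_single f η F ξ.1 ξ.2 q').choose_spec.2 _ _ h', add_zero])

theorem cmpS_single_self (ξ : PointsOver f η) (q : (EtCoh.stalk ξ.1).obj F) :
    cmpS f ξ.1 ξ.2 F (single f η F ξ q) = q :=
  (exists_cmpS_single f η F ξ.1 ξ.2 q).choose_spec.1

theorem cmpS_single_ne (ξ ξ' : PointsOver f η) (h : ξ' ≠ ξ) (q : (EtCoh.stalk ξ.1).obj F) :
    cmpS f ξ'.1 ξ'.2 F (single f η F ξ q) = 0 :=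
  (exists_cmpS_single f η F ξ.1 ξ.2 q).choose_spec.2 _ _ fun e => h (Subtype.ext e)

theorem sum_single (p : (EtCoh.stalk η).obj ((shriek₀ f).obj F)) :
    p = ∑ ξ ∈ (finite_cmpS_ne f η F p).toFinset, single f η F ξ (cmpS f ξ.1 ξ.2 F p) := by
  classical
  refine eq_of_cmpS f η F _ _ fun ξ => ?_
  rw [map_sum]
  by_cases h : ξ ∈ (finite_cmpS_ne f η F p).toFinset
  · rw [Finset.sum_eq_single_of_mem ξ h (fun ξ' _ hne => cmpS_single_ne f η F ξ' ξ hne.symm _),
      cmpS_single_self]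
  · rw [Finset.sum_eq_zero fun ξ' hξ' => cmpS_single_ne f η F ξ' ξ (fun e => h (e ▸ hξ')) _]
    rw [Set.Finite.mem_toFinset, Set.mem_setOf_eq, not_not] at h
    exact h

/-- The stalk of `f_!` is the direct sum of the stalks at the points above. -/
noncomputable def isColimitSingle :
    IsColimit (Cofan.mk ((EtCoh.stalk η).obj ((shriek₀ f).obj F)) (single f η F)) := by
  have hfin : ∀ (A : AddCommGrpCat.{u + 1}) (ψ : ∀ ξ : PointsOver f η, (EtCoh.stalk ξ.1).obj F ⟶ A)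
      (p : (EtCoh.stalk η).obj ((shriek₀ f).obj F)),
      (Function.support fun ξ : PointsOver f η => ψ ξ (cmpS f ξ.1 ξ.2 F p)).Finite := fun A ψ p =>
    (finite_cmpS_ne f η F p).subset fun ξ hξ h0 => hξ (by simp only; rw [h0, map_zero])
  refine mkCofanColimit _ (fun s => AddCommGrpCat.ofHom (AddMonoidHom.mk'
      (fun p => ∑ᶠ ξ : PointsOver f η, s.inj ξ (cmpS f ξ.1 ξ.2 F p)) fun p q => by
        refine Eq.trans (finsum_congr fun ξ => (congrArg _ (map_add _ p q)).trans (map_add _ _ _)) ?_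
        exact finsum_add_distrib (hfin s.pt (fun ξ => s.inj ξ) p) (hfin s.pt (fun ξ => s.inj ξ) q))) (fun s ξ => ?_) (fun s m hm => ?_)
  · ext q
    show ∑ᶠ ξ', s.inj ξ' (cmpS f ξ'.1 ξ'.2 F (single f η F ξ q)) = s.inj ξ q
    rw [finsum_eq_single _ ξ (fun ξ' h => by rw [cmpS_single_ne f η F ξ ξ' h, map_zero]),
      cmpS_single_self]
  · ext p
    show m p = ∑ᶠ ξ, s.inj ξ (cmpS f ξ.1 ξ.2 F p)
    rw [finsum_eq_sum_of_support_subset _ (s := (finite_cmpS_ne f η F p).toFinset) (fun ξ hξ => by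
      rw [Set.Finite.coe_toFinset]; exact fun h0 => hξ (by simp only; rw [h0, map_zero]))]
    conv_lhs => rw [sum_single f η F p]
    rw [map_sum]
    exact Finset.sum_congr rfl fun ξ _ => ConcreteCategory.congr_hom (hm ξ) _

theorem nonempty_stalk_iso :
    Nonempty ((EtCoh.stalk η).obj ((EtShriek.lowerShriek f).obj F) ≅
      ∐ fun ξ : PointsOver f η => (EtCoh.stalk ξ.1).obj F) :=
  ⟨(EtCoh.stalk η).mapIso ((shriekIso f).app F) ≪≫
    (isColimitSingle f η F).coconePointUniqueUpToIso (colimit.isColimit _)⟩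

end Groth.Agent.EtShriekLib
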